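import Mathlib

/-! Determinants of pencils of matrices: degree, top coefficient and derivative at a root. -/

set_option autoImplicit false
universe u

namespace Groth.FourPt

open Polynomial

theorem prod_bound {R : Type u} [CommRing R] {ι : Type*} (s : Finset ι) (f : ι → R[X]) (m : ι → ℕ)
    (h : ∀ i ∈ s, (f i).natDegree ≤ m i) :
    (∏ i ∈ s, f i).natDegree ≤ ∑ i ∈ s, m i ∧
      (∏ i ∈ s, f i).coeff (∑ i ∈ s, m i) = ∏ i ∈ s, (f i).coeff (m i) := by
  classical
  induction s using Finset.induction_on with
  | empty => simp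
  | insert a s ha ih =>
    obtain ⟨h1, h2⟩ := ih fun i hi => h i (Finset.mem_insert_of_mem hi)
    rw [Finset.prod_insert ha, Finset.sum_insert ha, Finset.prod_insert ha]
    have h0 := h a (Finset.mem_insert_self a s)
    refine ⟨natDegree_mul_le.trans (by omega), ?_⟩
    rw [coeff_mul_add_eq_of_natDegree_le h0 h1, h2]

/-- Degree and top coefficient of a determinant with bounded row degrees. -/
theorem det_bound {R : Type u} [CommRing R] {n : Type*} [Fintype n] [DecidableEq n] (M : Matrix n n R[X])
    (m : n → ℕ) (h : ∀ i j, (M i j).natDegree ≤ m i) :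
    M.det.natDegree ≤ ∑ i, m i ∧ M.det.coeff (∑ i, m i) = (Matrix.of fun i j => (M i j).coeff (m i)).det := by
  have key : ∀ σ : Equiv.Perm n, (∏ i, M (σ i) i).natDegree ≤ ∑ i, m i ∧
      (∏ i, M (σ i) i).coeff (∑ i, m i) = ∏ i, (M (σ i) i).coeff (m (σ i)) := fun σ => by
    obtain ⟨h1, h2⟩ := prod_bound (Finset.univ : Finset n) (fun i => M (σ i) i) (fun i => m (σ i))
      fun i _ => h _ _
    rw [Equiv.sum_comp σ m] at h1 h2
    exact ⟨h1, h2⟩
  constructor
  · rw [Matrix.det_apply]
    refine natDegree_sum_le_of_forall_le _ _ fun σ _ => ?_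
    exact (natDegree_smul_le _ _).trans (key σ).1
  · rw [Matrix.det_apply, Matrix.det_apply, finset_sum_coeff]
    refine Finset.sum_congr rfl fun σ _ => ?_
    rw [coeff_smul, (key σ).2]
    rfl

/-- At a multiple root of `det (A + X B)` there is a first order deformation of a null vector. -/
theorem exists_deformation {E : Type u} [Field E] {n : Type*} [Fintype n] [DecidableEq n] (A B : Matrix n n E)
    (t : E) (v : n → E) (i0 : n) (hv0 : v i0 ≠ 0) (hv : Matrix.mulVec (A + t • B) v = 0)
    (hd : (Matrix.of fun i j => C (A i j) + X * C (B i j)).det.derivative.eval t = 0) :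
    ∃ (μ : E) (w : n → E), Matrix.mulVec (A + t • B) w + μ • Matrix.mulVec B v = 0 ∧
      (μ ≠ 0 ∨ (w ≠ 0 ∧ w i0 = 0)) := by
  set M : Matrix n n E[X] := Matrix.of fun i j => C (A i j) + X * C (B i j) with hM
  set Q : E[X] := (M.updateCol i0 fun i => C (Matrix.mulVec B v i)).det with hQ
  have h0 : C (v i0) * M.det = (X - C t) * Q := by
    have h1 := Matrix.det_updateCol_sum M i0 (fun j => C (v j))
    have h2 : (fun i => ∑ j, (fun j => C (v j)) j • M i j) = (X - C t) • fun i => C (Matrix.mulVec B v i) := by
      funext i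
      have hi := congrFun hv i
      simp only [Matrix.mulVec, dotProduct, Matrix.add_apply, Matrix.smul_apply, smul_eq_mul, Pi.zero_apply,
        add_mul, Finset.sum_add_distrib, mul_assoc, ← Finset.mul_sum] at hi
      have hi' := congrArg C hi
      simp only [map_add, map_sum, map_mul, map_zero] at hi'
      simp only [Pi.smul_apply, smul_eq_mul, hM, Matrix.of_apply, Matrix.mulVec, dotProduct, map_sum, map_mul,
        Finset.mul_sum, mul_add, Finset.sum_add_distrib, sub_mul, Finset.sum_sub_distrib]
      rw [Finset.mul_sum] at hi'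
      have e1 : ∀ j, C (v j) * C (A i j) = C (A i j) * C (v j) := fun j => mul_comm _ _
      have e2 : ∀ j, C (v j) * (X * C (B i j)) = X * (C (B i j) * C (v j)) := fun j => by ring
      simp only [e1, e2]
      linear_combination hi'
    rw [h2, Matrix.det_updateCol_smul, smul_eq_mul] at h1
    exact h1.symm
  have h1 := congrArg (fun p : E[X] => (derivative p).eval t) h0
  simp only [derivative_mul, derivative_C, zero_mul, zero_add, derivative_sub, derivative_X, sub_zero,
    eval_add, eval_mul, eval_C, eval_one, one_mul, eval_sub, eval_X, sub_self, add_zero, hd, mul_zero] at h1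
  have hz : ((A + t • B).updateCol i0 (Matrix.mulVec B v)).det = 0 := by
    rw [h1, hQ, ← coe_evalRingHom, RingHom.map_det]
    congr 1
    ext i j
    rcases eq_or_ne j i0 with rfl | hj
    · simp [RingHom.mapMatrix_apply]
    · simp [RingHom.mapMatrix_apply, hM, Matrix.updateCol_ne hj]; ring
  obtain ⟨z, hz0, hz⟩ := Matrix.exists_mulVec_eq_zero_iff.2 hz
  refine ⟨z i0, Function.update z i0 0, ?_, ?_⟩
  · funext i
    have hi := congrFun hz i
    simp only [Matrix.mulVec, dotProduct, Pi.zero_apply] at hi
    simp only [Pi.add_apply, Pi.smul_apply, Pi.zero_apply, smul_eq_mul, Matrix.mulVec, dotProduct]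
    rw [← Finset.add_sum_erase _ _ (Finset.mem_univ i0)] at hi ⊢
    rw [Matrix.updateCol_self, Finset.sum_congr rfl fun j hj => by
      rw [Matrix.updateCol_ne (Finset.mem_erase.1 hj).1]] at hi
    rw [Function.update_self, mul_zero, zero_add, Finset.sum_congr rfl fun j hj => by
      rw [Function.update_of_ne (Finset.mem_erase.1 hj).1]]
    simp only [Matrix.mulVec, dotProduct] at hi
    linear_combination hi
  · by_cases h : z i0 = 0
    · refine .inr ⟨fun hw => hz0 ?_, Function.update_self ..⟩
      funext j
      rcases eq_or_ne j i0 with rfl | hj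
      · exact h
      · simpa [hj] using congrFun hw j
    · exact .inl h

end Groth.FourPt
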