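import Mathlib
import Groth.Agent.Misc6.Pencil3

/-! Pencils of small degree satisfying four Schubert conditions are genuine, and rigid. -/

set_option autoImplicit false
universe u

namespace Groth.FourPt

open Polynomial

/-- Four indices for degree `d`, in decreasing order. -/
structure Dat where
  d : ℕ
  e : Fin 4 → ℕ
  one_le : ∀ i, 1 ≤ e i
  le_d : ∀ i, e i ≤ d
  h01 : e 1 ≤ e 0
  h12 : e 2 ≤ e 1
  h23 : e 3 ≤ e 2
  sum_e : e 0 + e 1 + e 2 + e 3 = 2 * d + 2

variable (D : Dat)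

/-- Below the characteristic. -/
def Dat.Small (p : ℕ) : Prop := p = 0 ∨ D.d < p

variable {E : Type u} [Field E] {P : Fin 4 → E}

theorem Dat.e_ne_zero {D : Dat} {p : ℕ} [CharP E p] (h : D.Small p) (i : Fin 4) : (D.e i : E) ≠ 0 := by
  rw [Ne, CharP.cast_eq_zero_iff E p]
  intro hd
  have h1 := D.one_le i
  have h2 := D.le_d i
  rcases h with rfl | h
  · simp at hd; omega
  · have := Nat.le_of_dvd h1 hd; omega

theorem eq_zero_of_dvd (hP : Function.Injective P) (S : Finset (Fin 4)) {s : E[X]} {d : ℕ} (hs : s.natDegree ≤ d)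
    (f : Fin 4 → ℕ) (h : ∀ i ∈ S, (X - C (P i)) ^ f i ∣ s) (hlt : d < ∑ i ∈ S, f i) : s = 0 := by
  by_contra h0
  have h1 := natDegree_le_of_dvd
    (Finset.prod_dvd_of_coprime (fun i _ j _ hij => (pairwise_coprime_X_sub_C hP hij).pow) h) h0
  rw [natDegree_prod_of_monic _ _ fun i _ => (monic_X_sub_C _).pow _] at h1
  simp only [natDegree_pow, natDegree_X_sub_C, mul_one] at h1
  omega

theorem wronskian_ne_zero_of_small {p : ℕ} [CharP E p] {d : ℕ} (hp : p = 0 ∨ d < p) {F G : E[X]}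
    (hF : F.natDegree ≤ d) (hG : G.natDegree ≤ d) (hli : LinearIndependent E ![F, G]) : wronskian F G ≠ 0 := by
  have hcast : ∀ m l : ℕ, m ≤ d → l ≤ d → (m : E) = (l : E) → m = l := by
    intro m l hm hl h
    rcases hp with rfl | hp
    · have := CharP.charP_to_charZero E
      exact_mod_cast h
    · exact CharP.natCast_injOn_Iio E p (Set.mem_Iio.2 (by omega)) (Set.mem_Iio.2 (by omega)) h
  have h1 : F ≠ 0 := fun h => by simpa [h] using hli.ne_zero 0
  have h2 : G ≠ 0 := fun h => by simpa [h] using hli.ne_zero 1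
  intro hns
  by_cases hd12 : F.natDegree = G.natDegree
  · set c := G.leadingCoeff / F.leadingCoeff
    set H := G - c • F with hH
    have hH0 : H ≠ 0 := by
      rw [LinearIndependent.pair_iff' h1] at hli
      exact fun h => hli c (sub_eq_zero.1 h).symm
    have hc : c * F.leadingCoeff = G.leadingCoeff := div_mul_cancel₀ _ (leadingCoeff_ne_zero.2 h1)
    have hlt : H.natDegree ≠ F.natDegree := by
      intro he'
      refine hH0 (leadingCoeff_eq_zero.1 ?_)
      rw [leadingCoeff, he', hH, coeff_sub, coeff_smul, coeff_natDegree, smul_eq_mul, hc, hd12, coeff_natDegree,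
        sub_self]
    have hle : H.natDegree ≤ d := (natDegree_sub_le _ _).trans (max_le hG ((natDegree_smul_le _ _).trans hF))
    refine Groth.Misc6.Pencil.wronskian_ne_zero_of_natDegree h1 hH0 (fun h => hlt (hcast _ _ hle hF h)) ?_
    rw [hH]
    simp only [Polynomial.wronskian, smul_eq_C_mul, derivative_sub, derivative_mul, derivative_C, zero_mul,
      zero_add] at hns ⊢
    linear_combination hns
  · exact Groth.Misc6.Pencil.wronskian_ne_zero_of_natDegree h1 h2 (fun h => hd12 (hcast _ _ hG hF h).symm) hns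

/-- A pair satisfying the four conditions. -/
structure Sch (P : Fin 4 → E) (s₁ s₂ : E[X]) : Prop where
  deg₁ : s₁.natDegree ≤ D.d
  deg₂ : s₂.natDegree ≤ D.d
  indep : LinearIndependent E ![s₁, s₂]
  mem : ∀ i, ∃ x y : E, (x ≠ 0 ∨ y ≠ 0) ∧ (X - C (P i)) ^ D.e i ∣ x • s₁ + y • s₂

variable {D} {p : ℕ} [CharP E p]

theorem Sch.wronskian_spec (hP : Function.Injective P) (hp : D.Small p) {s₁ s₂ : E[X]} (h : Sch D P s₁ s₂) :
    wronskian s₁ s₂ ≠ 0 ∧ ∃ c : E, c ≠ 0 ∧ wronskian s₁ s₂ = C c * ∏ i, (X - C (P i)) ^ (D.e i - 1) := by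
  classical
  have hW := wronskian_ne_zero_of_small hp h.deg₁ h.deg₂ h.indep
  have hdvd : ∀ i, (X - C (P i)) ^ (D.e i - 1) ∣ wronskian s₁ s₂ := fun i => by
    obtain ⟨x, y, hxy, hd⟩ := h.mem i
    by_cases hy : y = 0
    · subst hy
      have hx : x ≠ 0 := hxy.resolve_right (by simp)
      have h1 := Groth.Misc6.Pencil.pow_sub_one_dvd_wronskian s₂ hd
      have : wronskian (x • s₁ + (0 : E) • s₂) s₂ = C x * wronskian s₁ s₂ := by
        simp only [wronskian, zero_smul, add_zero, smul_eq_C_mul, derivative_mul, derivative_C, zero_mul, zero_add]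
        ring
      rw [this] at h1
      exact (IsUnit.dvd_mul_left (isUnit_C.2 hx.isUnit)).1 h1
    · have h1 := Groth.Misc6.Pencil.pow_sub_one_dvd_wronskian s₁ hd
      have : wronskian (x • s₁ + y • s₂) s₁ = C (-y) * wronskian s₁ s₂ := by
        simp only [wronskian, smul_eq_C_mul, derivative_add, derivative_mul, derivative_C, zero_mul, zero_add, map_neg]
        ring
      rw [this] at h1
      exact (IsUnit.dvd_mul_left (isUnit_C.2 (neg_ne_zero.2 hy).isUnit)).1 h1
  have hcop : Set.Pairwise ((Finset.univ : Finset (Fin 4)) : Set (Fin 4))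
      (Function.onFun IsCoprime fun i => (X - C (P i)) ^ (D.e i - 1)) :=
    fun i _ j _ hij => (pairwise_coprime_X_sub_C hP hij).pow
  have hprod : ∏ i, (X - C (P i)) ^ (D.e i - 1) ∣ wronskian s₁ s₂ :=
    Finset.prod_dvd_of_coprime hcop fun i _ => hdvd i
  obtain ⟨q, hq⟩ := hprod
  have hq0 : q ≠ 0 := fun h0 => hW (by rw [hq, h0, mul_zero])
  have hdeg := Groth.Misc6.Pencil.natDegree_wronskian_le h.deg₁ h.deg₂
  have hm : (∏ i, (X - C (P i)) ^ (D.e i - 1)).Monic := monic_prod_of_monic _ _ fun i _ => (monic_X_sub_C _).pow _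
  rw [hq, natDegree_mul hm.ne_zero hq0, natDegree_prod_of_monic _ _ fun i _ => (monic_X_sub_C _).pow _,
    Fin.sum_univ_four] at hdeg
  simp only [natDegree_pow, natDegree_X_sub_C, mul_one] at hdeg
  have := D.one_le 0; have := D.one_le 1; have := D.one_le 2; have := D.one_le 3; have := D.sum_e
  obtain ⟨c, rfl⟩ := natDegree_eq_zero.1 (show q.natDegree = 0 by omega)
  exact ⟨hW, c, by simpa using hq0, by rw [hq, mul_comm]⟩

theorem Sch.rootMultiplicity (hP : Function.Injective P) (hp : D.Small p) {s₁ s₂ : E[X]} (h : Sch D P s₁ s₂)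
    (i : Fin 4) : (wronskian s₁ s₂).rootMultiplicity (P i) = D.e i - 1 := by
  classical
  obtain ⟨hW, c, hc, hWc⟩ := h.wronskian_spec hP hp
  rw [hWc, rootMultiplicity_mul (hWc ▸ hW), rootMultiplicity_C, zero_add,
    ← Finset.mul_prod_erase _ _ (Finset.mem_univ i), rootMultiplicity_mul, rootMultiplicity_X_sub_C_pow,
    rootMultiplicity_eq_zero, add_zero]
  · simp only [IsRoot, eval_prod, eval_pow, eval_sub, eval_X, eval_C, Finset.prod_eq_zero_iff]
    rintro ⟨j, hj, h0⟩
    exact (Finset.mem_erase.1 hj).1 (hP (sub_eq_zero.1 (eq_zero_of_pow_eq_zero h0)).symm)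
  · exact mul_ne_zero (pow_ne_zero _ (X_sub_C_ne_zero _)) (Finset.prod_ne_zero_iff.2 fun j _ => pow_ne_zero _ (X_sub_C_ne_zero _))

theorem Sch.not_dvd_succ (hP : Function.Injective P) (hp : D.Small p) {s₁ s₂ : E[X]} (h : Sch D P s₁ s₂)
    (i : Fin 4) {x y : E} (hxy : x ≠ 0 ∨ y ≠ 0) :
    ¬ (X - C (P i)) ^ (D.e i + 1) ∣ x • s₁ + y • s₂ := by
  intro hd
  obtain ⟨hW, -⟩ := h.wronskian_spec hP hp
  have key : (X - C (P i)) ^ D.e i ∣ wronskian s₁ s₂ := by
    by_cases hy : y = 0
    · subst hy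
      have h1 := Groth.Misc6.Pencil.pow_sub_one_dvd_wronskian s₂ hd
      have : wronskian (x • s₁ + (0 : E) • s₂) s₂ = C x * wronskian s₁ s₂ := by
        simp only [wronskian, zero_smul, add_zero, smul_eq_C_mul, derivative_mul, derivative_C, zero_mul, zero_add]
        ring
      rw [this, Nat.add_sub_cancel] at h1
      exact (IsUnit.dvd_mul_left (isUnit_C.2 (hxy.resolve_right (by simp)).isUnit)).1 h1
    · have h1 := Groth.Misc6.Pencil.pow_sub_one_dvd_wronskian s₁ hd
      have : wronskian (x • s₁ + y • s₂) s₁ = C (-y) * wronskian s₁ s₂ := by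
        simp only [wronskian, smul_eq_C_mul, derivative_add, derivative_mul, derivative_C, zero_mul, zero_add, map_neg]
        ring
      rw [this, Nat.add_sub_cancel] at h1
      exact (IsUnit.dvd_mul_left (isUnit_C.2 (neg_ne_zero.2 hy).isUnit)).1 h1
  rw [← le_rootMultiplicity_iff hW, h.rootMultiplicity hP hp] at key
  have := D.one_le i
  omega

theorem Sch.isCoprime (hP : Function.Injective P) (hp : D.Small p) {s₁ s₂ : E[X]} (h : Sch D P s₁ s₂) :
    IsCoprime s₁ s₂ := by
  classical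
  obtain ⟨hW, c, hc, hWc⟩ := h.wronskian_spec hP hp
  refine isCoprime_of_prime_dvd (fun h0 => hW (by simp [h0.1, wronskian])) fun q hq h1 h2 => ?_
  have hqW : q ∣ wronskian s₁ s₂ := dvd_sub (h1.mul_right _) (h2.mul_left _)
  rw [hWc] at hqW
  rcases hq.dvd_or_dvd hqW with hqc | hqp
  · exact hq.not_unit (isUnit_of_dvd_unit hqc (isUnit_C.2 hc.isUnit))
  · obtain ⟨i, -, hi⟩ := hq.exists_mem_finset_dvd hqp
    have ha := (hq.irreducible.associated_of_dvd (irreducible_X_sub_C _) (hq.dvd_of_dvd_pow hi)).symm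
    have r1 : s₁.IsRoot (P i) := dvd_iff_isRoot.1 (ha.dvd.trans h1)
    have r2 : s₂.IsRoot (P i) := dvd_iff_isRoot.1 (ha.dvd.trans h2)
    obtain ⟨x, y, hxy, hd⟩ := h.mem i
    have key : (X - C (P i)) ^ D.e i ∣ wronskian s₁ s₂ := by
      by_cases hy : y = 0
      · subst hy
        have h3 := Groth.Misc6.Pencil.pow_dvd_wronskian_of_root (D.one_le i) hd r2
        have : wronskian (x • s₁ + (0 : E) • s₂) s₂ = C x * wronskian s₁ s₂ := by
          simp only [wronskian, zero_smul, add_zero, smul_eq_C_mul, derivative_mul, derivative_C, zero_mul, zero_add]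
          ring
        rw [this] at h3
        exact (IsUnit.dvd_mul_left (isUnit_C.2 (hxy.resolve_right (by simp)).isUnit)).1 h3
      · have h3 := Groth.Misc6.Pencil.pow_dvd_wronskian_of_root (D.one_le i) hd r1
        have : wronskian (x • s₁ + y • s₂) s₁ = C (-y) * wronskian s₁ s₂ := by
          simp only [wronskian, smul_eq_C_mul, derivative_add, derivative_mul, derivative_C, zero_mul, zero_add, map_neg]
          ring
        rw [this] at h3
        exact (IsUnit.dvd_mul_left (isUnit_C.2 (neg_ne_zero.2 hy).isUnit)).1 h3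
    rw [← le_rootMultiplicity_iff hW, h.rootMultiplicity hP hp] at key
    have := D.one_le i
    omega

theorem Sch.exists_natDegree_eq (hP : Function.Injective P) (hp : D.Small p) {s₁ s₂ : E[X]} (h : Sch D P s₁ s₂) :
    s₁.natDegree = D.d ∨ s₂.natDegree = D.d := by
  by_contra! hne
  have h1 := h.deg₁
  have h2 := h.deg₂
  obtain ⟨hW, c, hc, hWc⟩ := h.wronskian_spec hP hp
  have hlt := natDegree_wronskian_lt_add hW
  rw [hWc, natDegree_C_mul hc, natDegree_prod_of_monic _ _ fun i _ => (monic_X_sub_C _).pow _,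
    Fin.sum_univ_four] at hlt
  simp only [natDegree_pow, natDegree_X_sub_C, mul_one] at hlt
  have := D.one_le 0; have := D.one_le 1; have := D.one_le 2; have := D.one_le 3; have := D.sum_e
  omega

/-- First order deformations fixing the cross value are trivial. -/
theorem Sch.rigid (hP : Function.Injective P) (hp : D.Small p) {s₁ s₂ : E[X]} (h : Sch D P s₁ s₂) {t : E}
    (h1 : (X - C (P 0)) ^ D.e 0 ∣ s₁) (h2 : (X - C (P 1)) ^ D.e 1 ∣ s₂) (h3 : (X - C (P 2)) ^ D.e 2 ∣ s₁ - s₂)
    (h4 : (X - C (P 3)) ^ D.e 3 ∣ s₁ - C t * s₂) {a b : E[X]} (ha : a.natDegree ≤ D.d) (hb : b.natDegree ≤ D.d)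
    (a1 : (X - C (P 0)) ^ D.e 0 ∣ a) (b2 : (X - C (P 1)) ^ D.e 1 ∣ b) (ab3 : (X - C (P 2)) ^ D.e 2 ∣ a - b)
    (ab4 : (X - C (P 3)) ^ (D.e 3 - 1) ∣ a - C t * b) :
    ∃ μ : E, a = C μ * s₁ ∧ b = C μ * s₂ := by
  classical
  let f : Fin 4 → ℕ := ![D.e 0, D.e 1, D.e 2, D.e 3 - 1]
  have hH : a * s₂ - s₁ * b = 0 := by
    refine eq_zero_of_dvd hP Finset.univ (d := 2 * D.d) ?_ f ?_ ?_
    · refine (natDegree_sub_le _ _).trans (max_le ?_ ?_) <;>
        refine natDegree_mul_le.trans ?_ <;> have := h.deg₁ <;> have := h.deg₂ <;> omega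
    · intro i _
      fin_cases i
      · exact dvd_sub (a1.mul_right _) (h1.mul_right _)
      · exact dvd_sub (h2.mul_left _) (b2.mul_left _)
      · show (X - C (P 2)) ^ D.e 2 ∣ _
        rw [show a * s₂ - s₁ * b = (a - b) * s₂ - (s₁ - s₂) * b by ring]
        exact dvd_sub (ab3.mul_right _) (h3.mul_right _)
      · show (X - C (P 3)) ^ (D.e 3 - 1) ∣ _
        rw [show a * s₂ - s₁ * b = (a - C t * b) * s₂ - (s₁ - C t * s₂) * b by ring]
        exact dvd_sub (ab4.mul_right _) (((pow_dvd_pow _ (Nat.sub_le _ _)).trans h4).mul_right _)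
    · simp only [Fin.sum_univ_four, f, Matrix.cons_val_zero, Matrix.cons_val_one, Matrix.cons_val, Matrix.head_cons]
      have := D.one_le 3; have := D.sum_e
      omega
  have hs1 : s₁ ≠ 0 := fun h0 => by simpa [h0] using h.indep.ne_zero 0
  have hs2 : s₂ ≠ 0 := fun h0 => by simpa [h0] using h.indep.ne_zero 1
  obtain ⟨R, hR⟩ : s₁ ∣ a := (h.isCoprime hP hp).dvd_of_dvd_mul_right ⟨b, by linear_combination hH⟩
  have hb' : b = s₂ * R := mul_left_cancel₀ hs1 (by linear_combination -hH + s₂ * hR)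
  have hR0 : R.natDegree = 0 := by
    rcases eq_or_ne R 0 with rfl | hR0
    · simp
    rw [hR, natDegree_mul hs1 hR0] at ha
    rw [hb', natDegree_mul hs2 hR0] at hb
    rcases h.exists_natDegree_eq hP hp with h' | h' <;> omega
  obtain ⟨μ, rfl⟩ := natDegree_eq_zero.1 hR0
  exact ⟨μ, by rw [hR, mul_comm], by rw [hb', mul_comm]⟩

end Groth.FourPt
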