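import Mathlib
import Groth.Agent.FourPt.Det
import Groth.Agent.FourPt.Genuine

/-! The linear system of pencils with four ramification points and given cross value. -/

set_option autoImplicit false
universe u

namespace Groth.FourPt

open Polynomial

variable (D : Dat)

/-- Length of the first block. -/
def Dat.al : ℕ := D.d + 1 - D.e 0
/-- Length of the low block of the second member. -/
def Dat.lo : ℕ := min (D.d + 1 - D.e 1) (D.e 2)
/-- Length of the high block of the second member. -/
def Dat.hi : ℕ := D.d + 1 - D.e 1 - D.lo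

/-- Columns. -/
abbrev Dat.Col : Type := Fin D.al ⊕ Fin D.lo ⊕ Fin D.hi
/-- Rows. -/
abbrev Dat.Row : Type := Fin (D.e 2) ⊕ Fin (D.e 3)

theorem Dat.card_eq : Fintype.card D.Col = Fintype.card D.Row := by
  rw [Fintype.card_sum, Fintype.card_sum, Fintype.card_sum, Fintype.card_fin, Fintype.card_fin, Fintype.card_fin,
    Fintype.card_fin, Fintype.card_fin]
  simp only [Dat.al, Dat.lo, Dat.hi]
  have := D.le_d 0; have := D.le_d 1; have := D.sum_e
  omega

theorem Dat.al_pos : 1 ≤ D.al := by
  have := D.le_d 0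
  simp only [Dat.al]
  omega

theorem Dat.hi_le : D.hi ≤ D.e 3 := by
  simp only [Dat.hi, Dat.lo]
  have := D.le_d 0; have := D.sum_e
  omega

/-- An identification of columns with rows. -/
noncomputable def Dat.σ : D.Col ≃ D.Row := Fintype.equivOfCardEq D.card_eq

variable {R : Type u} [CommRing R] (P : Fin 4 → R)

/-- The three members attached to a column. -/
noncomputable def colP : D.Col → R[X] × R[X] × R[X]
  | .inl l => ((X - C (P 0)) ^ D.e 0 * X ^ (l : ℕ), 0, 0)
  | .inr (.inl l) => (0, (X - C (P 1)) ^ D.e 1 * X ^ (l : ℕ), 0)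
  | .inr (.inr l) => (0, 0, (X - C (P 1)) ^ D.e 1 * ((X - C (P 2)) ^ D.e 2 * X ^ (l : ℕ)))

/-- The matrix of the system. -/
noncomputable def mat (c a b : R) : Matrix D.Row D.Col R := Matrix.of fun i j =>
  match i with
  | .inl x => (taylor (P 2) ((colP D P j).1 - (colP D P j).2.1 - (colP D P j).2.2)).coeff x
  | .inr x => c * (taylor (P 3) (colP D P j).1).coeff x - a * (taylor (P 3) (colP D P j).2.1).coeff x -
      b * (taylor (P 3) (colP D P j).2.2).coeff x

/-- The square matrix of the system. -/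
noncomputable def sq (c a b : R) : Matrix D.Col D.Col R := Matrix.of fun i j => mat D P c a b (D.σ i) j

/-- The members attached to a vector. -/
noncomputable def S₁ (v : D.Col → R) : R[X] := ∑ j, C (v j) * (colP D P j).1
noncomputable def SL (v : D.Col → R) : R[X] := ∑ j, C (v j) * (colP D P j).2.1
noncomputable def SH (v : D.Col → R) : R[X] := ∑ j, C (v j) * (colP D P j).2.2

/-- The coefficient polynomial of a block. -/
noncomputable def blk {n : ℕ} (v : Fin n → R) : R[X] := ∑ l, C (v l) * X ^ (l : ℕ)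

theorem coeff_blk {n : ℕ} (v : Fin n → R) (m : ℕ) :
    (blk v).coeff m = if h : m < n then v ⟨m, h⟩ else 0 := by
  simp only [blk, finset_sum_coeff, coeff_C_mul_X_pow]
  by_cases h : m < n
  · rw [dif_pos h, Finset.sum_eq_single ⟨m, h⟩ (fun l _ hl => if_neg fun h' => hl (Fin.ext h'.symm))
      (fun hn => absurd (Finset.mem_univ _) hn), if_pos rfl]
  · rw [dif_neg h, Finset.sum_eq_zero fun l _ => if_neg (by omega)]

theorem degree_blk_lt {n : ℕ} (v : Fin n → R) : (blk v).degree < n :=
  (degree_lt_iff_coeff_zero _ _).2 fun m hm => by rw [coeff_blk, dif_neg (not_lt.2 hm)]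

theorem blk_eq_zero {n : ℕ} {v : Fin n → R} (h : blk v = 0) : v = 0 := funext fun l => by
  have := congrArg (fun q : R[X] => q.coeff l) h
  simpa [coeff_blk] using this

theorem exists_blk {n : ℕ} (A : R[X]) (hA : A.degree < n) : ∃ v : Fin n → R, blk v = A :=
  ⟨fun l => A.coeff l, Polynomial.ext fun m => by
    rw [coeff_blk]
    split_ifs with h
    · rfl
    · exact ((degree_lt_iff_coeff_zero _ _).1 hA m (not_lt.1 h)).symm⟩

theorem S₁_eq (v : D.Col → R) : S₁ D P v = (X - C (P 0)) ^ D.e 0 * blk (fun l => v (.inl l)) := by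
  simp only [S₁, blk, Fintype.sum_sum_type, colP, mul_zero, Finset.sum_const_zero, add_zero, Finset.mul_sum]
  exact Finset.sum_congr rfl fun l _ => by ring

theorem SL_eq (v : D.Col → R) : SL D P v = (X - C (P 1)) ^ D.e 1 * blk (fun l => v (.inr (.inl l))) := by
  simp only [SL, blk, Fintype.sum_sum_type, colP, mul_zero, Finset.sum_const_zero, add_zero, zero_add, Finset.mul_sum]
  exact Finset.sum_congr rfl fun l _ => by ring

theorem SH_eq (v : D.Col → R) :
    SH D P v = (X - C (P 1)) ^ D.e 1 * ((X - C (P 2)) ^ D.e 2 * blk (fun l => v (.inr (.inr l)))) := by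
  simp only [SH, blk, Fintype.sum_sum_type, colP, mul_zero, Finset.sum_const_zero, zero_add, Finset.mul_sum]
  exact Finset.sum_congr rfl fun l _ => by ring

theorem mulVec_mat (c a b : R) (v : D.Col → R) (i : D.Row) :
    Matrix.mulVec (mat D P c a b) v i = match i with
      | .inl x => (taylor (P 2) (S₁ D P v - SL D P v - SH D P v)).coeff x
      | .inr x => (taylor (P 3) (C c * S₁ D P v - C a * SL D P v - C b * SH D P v)).coeff x := by
  rcases i with x | x <;>
    simp only [Matrix.mulVec, dotProduct, mat, Matrix.of_apply, S₁, SL, SH, map_sub, map_sum, taylor_mul, taylor_C,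
      coeff_sub, finset_sum_coeff, coeff_C_mul, Finset.mul_sum, ← Finset.sum_sub_distrib]
  · exact Finset.sum_congr rfl fun j _ => by ring
  · exact Finset.sum_congr rfl fun j _ => by ring

theorem dvd_iff_coeff (r : R) (q : R[X]) (m : ℕ) :
    (X - C r) ^ m ∣ q ↔ ∀ x : Fin m, (taylor r q).coeff x = 0 := by
  rw [X_sub_C_pow_dvd_iff, ← taylor_apply, X_pow_dvd_iff]
  exact ⟨fun h x => h x x.2, fun h x hx => h ⟨x, hx⟩⟩

theorem sq_mulVec (c a b : R) (v : D.Col → R) :
    Matrix.mulVec (sq D P c a b) v = 0 ↔ (X - C (P 2)) ^ D.e 2 ∣ S₁ D P v - SL D P v - SH D P v ∧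
      (X - C (P 3)) ^ D.e 3 ∣ C c * S₁ D P v - C a * SL D P v - C b * SH D P v := by
  have h1 : ∀ i, Matrix.mulVec (sq D P c a b) v i = Matrix.mulVec (mat D P c a b) v (D.σ i) := fun i => rfl
  rw [dvd_iff_coeff, dvd_iff_coeff]
  constructor
  · intro h
    constructor <;> intro x
    · have h2 := congrFun h (D.σ.symm (.inl x))
      rw [h1, Equiv.apply_symm_apply, mulVec_mat] at h2
      exact h2
    · have h2 := congrFun h (D.σ.symm (.inr x))
      rw [h1, Equiv.apply_symm_apply, mulVec_mat] at h2
      exact h2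
  · rintro ⟨hL, hR⟩
    funext i
    rw [h1, mulVec_mat]
    rcases D.σ i with x | x
    · exact hL x
    · exact hR x

theorem map_colP {S : Type u} [CommRing S] (φ : R →+* S) (j : D.Col) :
    colP D (φ ∘ P) j = ((colP D P j).1.map φ, (colP D P j).2.1.map φ, (colP D P j).2.2.map φ) := by
  rcases j with l | l | l <;> simp [colP]

theorem map_sq {S : Type u} [CommRing S] (φ : R →+* S) (c a b : R) :
    φ.mapMatrix (sq D P c a b) = sq D (φ ∘ P) (φ c) (φ a) (φ b) := by
  ext i j
  simp only [RingHom.mapMatrix_apply, Matrix.map_apply, sq, mat, Matrix.of_apply]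
  rcases D.σ i with x | x <;>
    simp only [map_colP, map_sub, map_mul, ← coeff_map, map_taylor, Function.comp_apply, Polynomial.map_sub]

/-- The determinant with the cross value as variable. -/
noncomputable def Dpol : R[X] := (sq D (C ∘ P) 1 X X).det
/-- The determinant with the forced factor removed. -/
noncomputable def Gpol : R[X] := (sq D (C ∘ P) 1 X 1).det

theorem taylor_high_eq_zero {S : Type u} [CommRing S] (Q : Fin 4 → S) (l : Fin D.hi) (x : Fin (D.e 2)) :
    (taylor (Q 2) (colP D Q (.inr (.inr l))).2.2).coeff x = 0 :=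
  (dvd_iff_coeff (Q 2) _ (D.e 2)).1 (Dvd.dvd.mul_left (dvd_mul_right _ _) _) x

theorem Dpol_eq : Dpol D P = X ^ D.hi * Gpol D P := by
  classical
  let w : D.Col → R[X] := fun j => match j with
    | .inr (.inr _) => X
    | _ => 1
  have hw : ∏ j, w j = X ^ D.hi := by simp [w, Fintype.prod_sum_type]
  rw [Dpol, Gpol, ← hw, ← Matrix.det_mul_row]
  congr 1
  ext i j
  simp only [sq, mat, Matrix.of_apply]
  rcases D.σ i with x | x <;> rcases j with l | l | l <;>
    simp only [w, colP, map_zero, coeff_zero, sub_zero, zero_sub, mul_zero, one_mul]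
  · have h := taylor_high_eq_zero D (C ∘ P) l x
    simp only [colP] at h
    simp only [Function.comp_apply] at h ⊢
    rw [map_neg, coeff_neg, h, neg_zero, mul_zero]
  · ring

theorem eval_Dpol (t : R) : (Dpol D P).eval t = (sq D P 1 t t).det := by
  rw [Dpol, ← coe_evalRingHom, RingHom.map_det, map_sq]
  congr 2 <;> simp [Function.comp_def]

theorem eval_Gpol (t : R) : (Gpol D P).eval t = (sq D P 1 t 1).det := by
  rw [Gpol, ← coe_evalRingHom, RingHom.map_det, map_sq]
  congr 2 <;> simp [Function.comp_def]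

theorem map_Gpol {S : Type u} [CommRing S] (φ : R →+* S) : (Gpol D P).map φ = Gpol D (φ ∘ P) := by
  rw [Gpol, ← coe_mapRingHom, RingHom.map_det, map_sq]
  simp only [coe_mapRingHom, Polynomial.map_one, map_X]
  rw [show (Polynomial.map φ) ∘ (C ∘ P) = C ∘ (φ ∘ P) from funext fun i => map_C φ]
  rfl

theorem sq_X_eq :
    sq D (C ∘ P) 1 X X = Matrix.of fun i j =>
      C (sq D P 1 0 0 i j) + X * C ((sq D P 0 1 1 - sq D P 0 0 0) i j) := by
  ext i j : 1
  simp only [sq, mat, Matrix.of_apply, Matrix.sub_apply]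
  have key : ∀ (q : R[X]) (r : R) (x : ℕ), (taylor (C r) (q.map C)).coeff x = C ((taylor r q).coeff x) := fun q r x => by
    rw [← map_taylor, coeff_map]
  rcases D.σ i with x | x <;>
    simp only [map_colP, ← Polynomial.map_sub, Function.comp_apply, key, map_sub, map_mul, map_one, map_zero]
  · ring
  · ring

theorem natDegree_Dpol_le_and :
    (Dpol D P).natDegree ≤ D.e 3 ∧ (Dpol D P).coeff (D.e 3) = (sq D P 0 1 1).det := by
  classical
  let m : D.Col → ℕ := fun i => Sum.elim (fun _ => 0) (fun _ => 1) (D.σ i)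
  have hm : ∑ i, m i = D.e 3 := by
    rw [Equiv.sum_comp D.σ (Sum.elim (fun _ => 0) fun _ => 1)]
    simp
  have hdeg : ∀ i j, (sq D (C ∘ P) 1 X X i j).natDegree ≤ m i ∧
      (sq D (C ∘ P) 1 X X i j).coeff (m i) = sq D P 0 1 1 i j := by
    intro i j
    rw [sq_X_eq]
    simp only [Matrix.of_apply, Matrix.sub_apply, sq, mat, m]
    rcases D.σ i with x | x <;>
      simp only [Sum.elim_inl, Sum.elim_inr, sub_self, map_zero, mul_zero, add_zero, natDegree_C, coeff_C_zero,
        le_refl, and_self]
    refine ⟨?_, ?_⟩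
    · refine natDegree_add_le_of_degree_le (by simp) (natDegree_mul_le.trans ?_)
      have := natDegree_X_le (R := R)
      simp only [natDegree_C, add_zero]
      exact this
    · simp [coeff_add, coeff_C]
  obtain ⟨h1, h2⟩ := det_bound (sq D (C ∘ P) 1 X X) m fun i j => (hdeg i j).1
  rw [hm] at h1 h2
  refine ⟨h1, h2.trans ?_⟩
  congr 1
  ext i j
  exact (hdeg i j).2

end Groth.FourPt
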