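import Mathlib
import Groth.Agent.FourPt.Mat
import Groth.Agent.RamGeneric.Deriv

/-! Null vectors of the system and the simplicity of the roots at the generic point. -/

set_option autoImplicit false
universe u

namespace Groth.FourPt

open Polynomial

variable {D : Dat}

theorem natDegree_blk_lt {R : Type u} [CommRing R] {n : ℕ} (v : Fin n → R) (h : blk v ≠ 0) :
    (blk v).natDegree < n :=
  (natDegree_lt_iff_degree_lt h).2 (degree_blk_lt v)

section Field

variable {E : Type u} [Field E] {P : Fin 4 → E}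

theorem natDegree_pow_X_sub_C_mul (c : E) (m : ℕ) {Q : E[X]} (hQ : Q ≠ 0) :
    ((X - C c) ^ m * Q).natDegree = m + Q.natDegree := by
  rw [natDegree_mul (pow_ne_zero _ (X_sub_C_ne_zero _)) hQ, natDegree_pow, natDegree_X_sub_C, mul_one]

theorem natDegree_S₁ (v : D.Col → E) : (S₁ D P v).natDegree ≤ D.d := by
  rw [S₁_eq]
  by_cases h : blk (fun l => v (.inl l)) = 0
  · simp [h]
  · rw [natDegree_pow_X_sub_C_mul _ _ h]
    have := natDegree_blk_lt _ h
    have := D.le_d 0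
    have h2 : D.al = D.d + 1 - D.e 0 := rfl
    omega

theorem natDegree_SL (v : D.Col → E) : (SL D P v).natDegree ≤ D.d := by
  rw [SL_eq]
  by_cases h : blk (fun l => v (.inr (.inl l))) = 0
  · simp [h]
  · rw [natDegree_pow_X_sub_C_mul _ _ h]
    have := natDegree_blk_lt _ h
    have := D.le_d 1
    have h2 : D.lo = min (D.d + 1 - D.e 1) (D.e 2) := rfl
    omega

theorem natDegree_SH (v : D.Col → E) : (SH D P v).natDegree ≤ D.d := by
  rw [SH_eq]
  by_cases h : blk (fun l => v (.inr (.inr l))) = 0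
  · simp [h]
  · rw [natDegree_pow_X_sub_C_mul _ _ (mul_ne_zero (pow_ne_zero _ (X_sub_C_ne_zero _)) h),
      natDegree_pow_X_sub_C_mul _ _ h]
    have := natDegree_blk_lt _ h
    have h2 : D.lo = min (D.d + 1 - D.e 1) (D.e 2) := rfl
    have h3 : D.hi = D.d + 1 - D.e 1 - D.lo := rfl
    omega

theorem dvd_S₁ (v : D.Col → E) : (X - C (P 0)) ^ D.e 0 ∣ S₁ D P v := by rw [S₁_eq]; exact dvd_mul_right _ _

theorem dvd_SL (v : D.Col → E) : (X - C (P 1)) ^ D.e 1 ∣ SL D P v := by rw [SL_eq]; exact dvd_mul_right _ _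

theorem dvd_SH (v : D.Col → E) :
    (X - C (P 1)) ^ D.e 1 ∣ SH D P v ∧ (X - C (P 2)) ^ D.e 2 ∣ SH D P v := by
  rw [SH_eq]
  exact ⟨dvd_mul_right _ _, Dvd.dvd.mul_left (dvd_mul_right _ _) _⟩

theorem low_eq_zero {v : D.Col → E} (h : (X - C (P 2)) ^ D.e 2 ∣ blk (fun l => v (.inr (.inl l)))) :
    blk (fun l => v (.inr (.inl l))) = 0 := by
  by_contra h0
  have h1 := natDegree_le_of_dvd h h0
  rw [natDegree_pow, natDegree_X_sub_C, mul_one] at h1
  have := natDegree_blk_lt _ h0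
  have h2 : D.lo = min (D.d + 1 - D.e 1) (D.e 2) := rfl
  omega

theorem SL_add_SH_eq_zero {v : D.Col → E} (h : SL D P v + SH D P v = 0) :
    SL D P v = 0 ∧ SH D P v = 0 := by
  have h1 : blk (fun l => v (.inr (.inl l))) + (X - C (P 2)) ^ D.e 2 * blk (fun l => v (.inr (.inr l))) = 0 := by
    refine (mul_eq_zero.1 (?_ : (X - C (P 1)) ^ D.e 1 * _ = 0)).resolve_left (pow_ne_zero _ (X_sub_C_ne_zero _))
    rw [SL_eq, SH_eq] at h
    linear_combination h
  have h2 := low_eq_zero (P := P) (v := v) ⟨- blk (fun l => v (.inr (.inr l))), by linear_combination h1⟩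
  rw [h2, zero_add] at h1
  rw [SL_eq, SH_eq, h2, h1, mul_zero]
  exact ⟨rfl, rfl⟩

theorem eq_zero_of_S (v : D.Col → E) (h1 : S₁ D P v = 0) (h2 : SL D P v = 0) (h3 : SH D P v = 0) : v = 0 := by
  have hne : ∀ (c : E) (m : ℕ), (X - C c) ^ m ≠ 0 := fun c m => pow_ne_zero _ (X_sub_C_ne_zero _)
  rw [S₁_eq] at h1
  rw [SL_eq] at h2
  rw [SH_eq] at h3
  have a := blk_eq_zero ((mul_eq_zero.1 h1).resolve_left (hne _ _))
  have b := blk_eq_zero ((mul_eq_zero.1 h2).resolve_left (hne _ _))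
  have c := blk_eq_zero ((mul_eq_zero.1 ((mul_eq_zero.1 h3).resolve_left (hne _ _))).resolve_left (hne _ _))
  funext j
  rcases j with l | l | l
  · exact congrFun a l
  · exact congrFun b l
  · exact congrFun c l

theorem indep_of_dvd (hP : Function.Injective P) {s₁ s₂ : E[X]} (hd : s₁.natDegree ≤ D.d) (h1 : s₁ ≠ 0) (h2 : s₂ ≠ 0)
    (a : (X - C (P 0)) ^ D.e 0 ∣ s₁) (b : (X - C (P 1)) ^ D.e 1 ∣ s₂) : LinearIndependent E ![s₁, s₂] := by
  rw [LinearIndependent.pair_iff' h1]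
  intro c hc
  have hc0 : c ≠ 0 := by rintro rfl; exact h2 (by simpa using hc.symm)
  refine h1 (eq_zero_of_dvd hP {0, 1} hd D.e (fun i hi => ?_) ?_)
  · simp only [Finset.mem_insert, Finset.mem_singleton] at hi
    rcases hi with rfl | rfl
    · exact a
    · rw [← hc, smul_eq_C_mul] at b
      exact (IsUnit.dvd_mul_left (isUnit_C.2 hc0.isUnit)).1 b
  · rw [Finset.sum_pair (by decide)]
    have := D.h01; have := D.h12; have := D.h23; have := D.sum_e
    omega

/-- The facts on a null vector at cross value `t`. -/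
theorem sch_of_null (hP : Function.Injective P) {t : E} (ht : t ≠ 0) {v : D.Col → E} (hv : v ≠ 0)
    (h : Matrix.mulVec (sq D P 1 t t) v = 0) :
    Sch D P (S₁ D P v) (SL D P v + SH D P v) ∧
      (X - C (P 1)) ^ D.e 1 ∣ SL D P v + SH D P v ∧
      (X - C (P 2)) ^ D.e 2 ∣ S₁ D P v - (SL D P v + SH D P v) ∧
      (X - C (P 3)) ^ D.e 3 ∣ S₁ D P v - C t * (SL D P v + SH D P v) := by
  obtain ⟨h3, h4⟩ := (sq_mulVec D P 1 t t v).1 h
  rw [map_one, one_mul] at h4
  set s₁ := S₁ D P v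
  set s₂ := SL D P v + SH D P v with hs2
  have b : (X - C (P 1)) ^ D.e 1 ∣ s₂ := dvd_add (dvd_SL v) (dvd_SH v).1
  have c : (X - C (P 2)) ^ D.e 2 ∣ s₁ - s₂ := by rw [hs2, ← sub_sub]; exact h3
  have e : (X - C (P 3)) ^ D.e 3 ∣ s₁ - C t * s₂ := by
    rw [hs2, mul_add, ← sub_sub]; exact h4
  have hd2 : s₂.natDegree ≤ D.d := natDegree_add_le_of_degree_le (natDegree_SL v) (natDegree_SH v)
  have h0 := D.le_d 0
  have hsum := D.sum_e
  have h01 := D.h01; have h12 := D.h12; have h23 := D.h23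
  have hne : ¬ (s₁ = 0 ∧ s₂ = 0) := fun ⟨a1, a2⟩ =>
    hv (eq_zero_of_S v a1 (SL_add_SH_eq_zero a2).1 (SL_add_SH_eq_zero a2).2)
  have hs1 : s₁ ≠ 0 := by
    intro a1
    refine hne ⟨a1, eq_zero_of_dvd hP {1, 2, 3} hd2 D.e (fun i hi => ?_) ?_⟩
    · simp only [Finset.mem_insert, Finset.mem_singleton] at hi
      rcases hi with rfl | rfl | rfl
      · exact b
      · rw [a1, zero_sub, dvd_neg] at c; exact c
      · rw [a1, zero_sub, dvd_neg] at e
        exact (IsUnit.dvd_mul_left (isUnit_C.2 ht.isUnit)).1 e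
    · rw [Finset.sum_insert (by decide), Finset.sum_pair (by decide)]
      omega
  have hs2' : s₂ ≠ 0 := by
    intro a2
    refine hs1 (eq_zero_of_dvd hP {0, 2, 3} (natDegree_S₁ v) D.e (fun i hi => ?_) ?_)
    · simp only [Finset.mem_insert, Finset.mem_singleton] at hi
      rcases hi with rfl | rfl | rfl
      · exact dvd_S₁ v
      · rw [a2, sub_zero] at c; exact c
      · rw [a2, mul_zero, sub_zero] at e; exact e
    · rw [Finset.sum_insert (by decide), Finset.sum_pair (by decide)]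
      have := D.one_le 3
      omega
  refine ⟨⟨natDegree_S₁ v, hd2, indep_of_dvd hP (natDegree_S₁ v) hs1 hs2' (dvd_S₁ v) b, fun i => ?_⟩, b, c, e⟩
  fin_cases i
  · exact ⟨1, 0, .inl one_ne_zero, by simpa using dvd_S₁ v⟩
  · exact ⟨0, 1, .inr one_ne_zero, by simpa using b⟩
  · exact ⟨1, -1, .inl one_ne_zero, by simpa [sub_eq_add_neg] using c⟩
  · exact ⟨1, -t, .inl one_ne_zero, by simpa [sub_eq_add_neg, smul_eq_C_mul] using e⟩

theorem sq_linear (t : E) : sq D P 1 t t = sq D P 1 0 0 + t • (sq D P 0 1 1 - sq D P 0 0 0) := by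
  ext i j
  simp only [Matrix.add_apply, Matrix.smul_apply, Matrix.sub_apply, smul_eq_mul, sq, mat, Matrix.of_apply]
  rcases D.σ i with x | x <;> ring

theorem dvd_of_deformation {t μ : E} {v w : D.Col → E}
    (h : Matrix.mulVec (sq D P 1 0 0 + t • (sq D P 0 1 1 - sq D P 0 0 0)) w +
      μ • Matrix.mulVec (sq D P 0 1 1 - sq D P 0 0 0) v = 0) :
    (X - C (P 2)) ^ D.e 2 ∣ S₁ D P w - SL D P w - SH D P w ∧
      (X - C (P 3)) ^ D.e 3 ∣ S₁ D P w - C t * (SL D P w + SH D P w) - C μ * (SL D P v + SH D P v) := by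
  rw [← sq_linear, Matrix.sub_mulVec] at h
  have h1 : ∀ (c a b : E) (u : D.Col → E) i,
      Matrix.mulVec (sq D P c a b) u i = Matrix.mulVec (mat D P c a b) u (D.σ i) := fun _ _ _ _ _ => rfl
  rw [dvd_iff_coeff, dvd_iff_coeff]
  constructor <;> intro x
  · have h2 := congrFun h (D.σ.symm (.inl x))
    simp only [Pi.add_apply, Pi.smul_apply, Pi.sub_apply, Pi.zero_apply, h1, Equiv.apply_symm_apply, mulVec_mat,
      smul_eq_mul, sub_self, mul_zero, add_zero] at h2
    exact h2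
  · have h2 := congrFun h (D.σ.symm (.inr x))
    simp only [Pi.add_apply, Pi.smul_apply, Pi.sub_apply, Pi.zero_apply, h1, Equiv.apply_symm_apply, mulVec_mat,
      smul_eq_mul, map_zero, map_one, one_mul, zero_mul, map_sub, coeff_sub, taylor_mul, taylor_C,
      coeff_C_mul, coeff_zero] at h2
    simp only [map_sub, map_add, taylor_mul, taylor_C, coeff_sub, coeff_add, coeff_C_mul]
    linear_combination h2

/-- No double root when the last point moves independently. -/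
theorem not_double {k : Type u} [Field k] [Algebra k E] (hP : Function.Injective P) {p : ℕ} [CharP E p]
    (hp : D.Small p) (Dv : Derivation k E E) (h0 : Dv (P 0) = 0) (h1 : Dv (P 1) = 0) (h2 : Dv (P 2) = 0)
    (h3 : Dv (P 3) = 1) {t : E} (ht : t ≠ 0) (hroot : (Dpol D P).eval t = 0) :
    (Dpol D P).derivative.eval t ≠ 0 := by
  intro hd
  obtain ⟨v, hv, hvn⟩ := Matrix.exists_mulVec_eq_zero_iff.2 (eval_Dpol D P t ▸ hroot)
  obtain ⟨hsch, b, c, e⟩ := sch_of_null hP ht hv hvn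
  obtain ⟨i0, hi0⟩ := Function.ne_iff.1 hv
  rw [sq_linear] at hvn
  rw [Dpol, sq_X_eq] at hd
  obtain ⟨μ, w, hw, hcase⟩ := exists_deformation _ _ t v i0 hi0 hvn hd
  obtain ⟨w3, w4⟩ := dvd_of_deformation hw
  set s₁ := S₁ D P v
  set s₂ := SL D P v + SH D P v
  set a₁ := S₁ D P w with ha₁
  set a₂ := SL D P w + SH D P w with ha₂
  have hda₂ : a₂.natDegree ≤ D.d := natDegree_add_le_of_degree_le (natDegree_SL w) (natDegree_SH w)
  have hdb₂ : (X - C (P 1)) ^ D.e 1 ∣ a₂ := dvd_add (dvd_SL w) (dvd_SH w).1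
  have w3' : (X - C (P 2)) ^ D.e 2 ∣ a₁ - a₂ := by rw [ha₂, ← sub_sub]; exact w3
  rcases eq_or_ne μ 0 with hμ | hμ
  · obtain ⟨hw0, hwi⟩ := hcase.resolve_left (not_not.2 hμ)
    rw [hμ, map_zero, zero_mul, sub_zero] at w4
    obtain ⟨r, hr1, hr2⟩ := hsch.rigid hP hp (dvd_S₁ v) b c e (natDegree_S₁ w) hda₂ (dvd_S₁ w) hdb₂ w3'
      ((pow_dvd_pow _ (Nat.sub_le _ _)).trans w4)
    -- hence `w = r • v`
    have hlin : ∀ (f : (D.Col → E) → E[X]) (col : D.Col → E[X]), (∀ u, f u = ∑ j, C (u j) * col j) →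
        f (w - r • v) = f w - C r * f v := fun f col hf => by
      simp only [hf, Finset.mul_sum, ← Finset.sum_sub_distrib]
      exact Finset.sum_congr rfl fun j _ => by simp [sub_mul, mul_assoc]
    have e1 := hlin (S₁ D P) _ fun u => rfl
    have e2 := hlin (SL D P) _ fun u => rfl
    have e3 := hlin (SH D P) _ fun u => rfl
    have hz : w - r • v = 0 := by
      have z1 : S₁ D P (w - r • v) = 0 := by rw [e1, hr1, sub_self]
      have z2 : SL D P (w - r • v) + SH D P (w - r • v) = 0 := by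
        rw [e2, e3]
        linear_combination hr2
      exact eq_zero_of_S _ z1 (SL_add_SH_eq_zero z2).1 (SL_add_SH_eq_zero z2).2
    have hr0 : r = 0 := by
      have := congrFun hz i0
      simp only [Pi.sub_apply, Pi.smul_apply, Pi.zero_apply, smul_eq_mul, hwi, zero_sub, neg_eq_zero, mul_eq_zero] at this
      exact this.resolve_right hi0
    exact hw0 (by simpa [hr0] using hz)
  · set l := Dv t / μ with hl
    let a := Groth.RamGeneric.dC Dv s₁ - C l * a₁
    let b' := Groth.RamGeneric.dC Dv s₂ - C l * a₂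
    have hu : ∀ (i : Fin 4) (m : ℕ), Dv (P i) = 0 → ∀ q : E[X], (X - C (P i)) ^ m ∣ q →
        (X - C (P i)) ^ m ∣ Groth.RamGeneric.dC Dv q := by
      rintro i m hi q ⟨g, rfl⟩
      rcases m with _ | m
      · simp
      rw [Groth.RamGeneric.dC_mul, Groth.RamGeneric.dC_pow_succ, Groth.RamGeneric.dC_sub, Groth.RamGeneric.dC_X,
        Groth.RamGeneric.dC_C, hi, map_zero, sub_zero, mul_zero, zero_mul, zero_add]
      exact dvd_mul_right _ _
    have hab3 : (X - C (P 2)) ^ D.e 2 ∣ a - b' := by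
      rw [show a - b' = Groth.RamGeneric.dC Dv (s₁ - s₂) - C l * (a₁ - a₂) by
        simp only [a, b', Groth.RamGeneric.dC_sub]; ring]
      exact dvd_sub (hu 2 _ h2 _ c) (w3'.mul_left _)
    have hab4 : (X - C (P 3)) ^ D.e 3 ∣ (a - C t * b') - Groth.RamGeneric.dC Dv (s₁ - C t * s₂) := by
      rw [show (a - C t * b') - Groth.RamGeneric.dC Dv (s₁ - C t * s₂) = -(C l) * (a₁ - C t * a₂ - C μ * s₂) by
        simp only [a, b', Groth.RamGeneric.dC_sub, Groth.RamGeneric.dC_mul, Groth.RamGeneric.dC_C]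
        rw [show Dv t = l * μ by rw [hl, div_mul_cancel₀ _ hμ], map_mul]
        ring]
      exact Dvd.dvd.mul_left w4 _
    obtain ⟨R, hR⟩ := e
    obtain ⟨m, hm⟩ := Nat.exists_eq_add_of_le' (D.one_le 3)
    have hdR : Groth.RamGeneric.dC Dv (s₁ - C t * s₂) =
        (X - C (P 3)) ^ m * (- C ((m + 1 : ℕ) : E) * R + (X - C (P 3)) * Groth.RamGeneric.dC Dv R) := by
      rw [hR, hm, Groth.RamGeneric.dC_mul, Groth.RamGeneric.dC_pow_succ, Groth.RamGeneric.dC_sub,
        Groth.RamGeneric.dC_X, Groth.RamGeneric.dC_C, h3, map_one, pow_succ]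
      ring
    have hdeg : ∀ (q q' : E[X]), q.natDegree ≤ D.d → q'.natDegree ≤ D.d →
        (Groth.RamGeneric.dC Dv q - C l * q').natDegree ≤ D.d := fun q q' hq hq' =>
      (natDegree_sub_le _ _).trans (max_le ((Groth.RamGeneric.natDegree_dC_le Dv q).trans hq)
        ((natDegree_C_mul_le _ _).trans hq'))
    obtain ⟨r, hr1, hr2⟩ := hsch.rigid hP hp (dvd_S₁ v) b c ⟨R, hR⟩ (a := a) (b := b')
      (hdeg _ _ hsch.deg₁ (natDegree_S₁ w)) (hdeg _ _ hsch.deg₂ hda₂)
      (dvd_sub (hu 0 _ h0 _ (dvd_S₁ v)) ((dvd_S₁ w).mul_left _))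
      (dvd_sub (hu 1 _ h1 _ b) (hdb₂.mul_left _)) hab3 (by
        have h5 : (X - C (P 3)) ^ (D.e 3 - 1) ∣ Groth.RamGeneric.dC Dv (s₁ - C t * s₂) := by
          rw [hdR, hm, Nat.add_sub_cancel]; exact dvd_mul_right _ _
        have h6 := dvd_add ((pow_dvd_pow _ (Nat.sub_le _ _)).trans hab4) h5
        rwa [sub_add_cancel] at h6)
    have key : (X - C (P 3)) ^ (m + 1) ∣ Groth.RamGeneric.dC Dv (s₁ - C t * s₂) := by
      have h5 : (X - C (P 3)) ^ D.e 3 ∣ a - C t * b' := by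
        rw [hr1, hr2, show C r * s₁ - C t * (C r * s₂) = C r * (s₁ - C t * s₂) by ring, hR]
        exact (dvd_mul_right _ _).mul_left _
      have h6 := dvd_sub h5 hab4
      rwa [sub_sub_cancel, hm] at h6
    rw [hdR, pow_succ] at key
    have key' := (mul_dvd_mul_iff_left (pow_ne_zero _ (X_sub_C_ne_zero _))).1 key
    rw [dvd_iff_isRoot, IsRoot, eval_add, eval_mul, eval_mul, eval_neg, eval_C, eval_sub, eval_X, eval_C,
      sub_self, zero_mul, add_zero, mul_eq_zero, neg_eq_zero] at key'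
    rcases key' with h7 | h7
    · exact Dat.e_ne_zero (D := D) hp 3 (hm ▸ h7)
    · refine hsch.not_dvd_succ hP hp 3 (x := 1) (y := -t) (.inl one_ne_zero) ?_
      rw [one_smul, neg_smul, smul_eq_C_mul, ← sub_eq_add_neg, hR, pow_succ]
      exact mul_dvd_mul_left _ (dvd_iff_isRoot.2 h7)

end Field

end Groth.FourPt
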