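import Mathlib
import Groth.Agent.FourPt.Roots

/-! The determinant in the cross value is separable for general points. -/

set_option autoImplicit false
universe u

namespace Groth.FourPt

open Polynomial

/-- A derivation of an adjoined root field extending a dual number map on the base. -/
theorem exists_derivation {k F : Type u} [Field k] [Field F] [Algebra k F] (q : F[X]) [Fact (Irreducible q)]
    (hq : q.derivative.eval₂ (AdjoinRoot.of q) (AdjoinRoot.root q) ≠ 0)
    (ψ : F →ₐ[k] TrivSqZeroExt (AdjoinRoot q) (AdjoinRoot q))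
    (hψ : ∀ x, (ψ x).fst = AdjoinRoot.of q x) :
    ∃ Dv : Derivation k (AdjoinRoot q) (AdjoinRoot q), ∀ x, Dv (AdjoinRoot.of q x) = (ψ x).snd := by
  let E := AdjoinRoot q
  let fstR : TrivSqZeroExt E E →+* E := (TrivSqZeroExt.fstHom k E E).toRingHom
  let z : TrivSqZeroExt E E := TrivSqZeroExt.inl (AdjoinRoot.root q)
  have hfst : ∀ (g : F[X]), (g.eval₂ ψ.toRingHom z).fst = g.eval₂ (AdjoinRoot.of q) (AdjoinRoot.root q) := fun g => by
    show fstR (g.eval₂ ψ.toRingHom z) = _
    rw [hom_eval₂]
    congr 1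
    exact RingHom.ext hψ
  set b := q.derivative.eval₂ (AdjoinRoot.of q) (AdjoinRoot.root q) with hb
  set s : E := - (q.eval₂ ψ.toRingHom z).snd / b with hs
  have hsq : (TrivSqZeroExt.inr s : TrivSqZeroExt E E) ^ 2 = 0 := by
    rw [pow_two, TrivSqZeroExt.inr_mul_inr]
  have hroot : q.eval₂ ψ.toRingHom (z + TrivSqZeroExt.inr s) = 0 := by
    rw [← eval_map, eval_add_of_sq_eq_zero _ _ _ hsq, eval_map, derivative_map, eval_map]
    refine TrivSqZeroExt.ext ?_ ?_
    · rw [TrivSqZeroExt.fst_add, TrivSqZeroExt.fst_mul, TrivSqZeroExt.fst_inr, mul_zero, add_zero,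
        TrivSqZeroExt.fst_zero, hfst]
      exact AdjoinRoot.eval₂_root q
    · rw [TrivSqZeroExt.snd_add, TrivSqZeroExt.snd_mul, TrivSqZeroExt.fst_inr, TrivSqZeroExt.snd_inr,
        TrivSqZeroExt.snd_zero, hfst, ← hb]
      simp only [smul_eq_mul, MulOpposite.op_zero, zero_smul, add_zero, hs]
      rw [div_eq_mul_inv, mul_left_comm, mul_inv_cancel₀ hq, mul_one, add_neg_cancel]
  let τ : E →+* TrivSqZeroExt E E := AdjoinRoot.lift ψ.toRingHom _ hroot
  have hτ : ∀ a, (τ a).fst = a := fun a => by
    have : fstR.comp τ = RingHom.id E := by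
      refine RingHom.ext fun a => ?_
      induction a using AdjoinRoot.induction_on with
      | ih g =>
        show fstR (AdjoinRoot.lift ψ.toRingHom _ hroot (AdjoinRoot.mk q g)) = AdjoinRoot.mk q g
        rw [AdjoinRoot.lift_mk, hom_eval₂, show fstR.comp ψ.toRingHom = AdjoinRoot.of q from RingHom.ext hψ,
          show fstR (z + TrivSqZeroExt.inr s) = AdjoinRoot.root q by simp [fstR, z]]
        exact (AdjoinRoot.aeval_eq g)
    exact RingHom.congr_fun this a
  have hτof : ∀ x, τ (AdjoinRoot.of q x) = ψ x := fun x => AdjoinRoot.lift_of hroot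
  have hτk : ∀ c : k, τ (algebraMap k E c) = TrivSqZeroExt.inl (algebraMap k E c) := fun c => by
    have h : algebraMap k E c = AdjoinRoot.of q (algebraMap k F c) := rfl
    conv_lhs => rw [h, hτof, ψ.commutes]
    rfl
  refine ⟨Derivation.mk'
    { toFun := fun a => (τ a).snd
      map_add' := fun a b => by simp
      map_smul' := fun c a => by
        rw [Algebra.smul_def, map_mul, hτk]
        simp only [TrivSqZeroExt.snd_mul, TrivSqZeroExt.fst_inl, TrivSqZeroExt.snd_inl, smul_zero,
          add_zero, RingHom.id_apply, Algebra.smul_def]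
        rfl } (fun a b => ?_), fun x => ?_⟩
  · show (τ (a * b)).snd = a • (τ b).snd + b • (τ a).snd
    rw [map_mul, TrivSqZeroExt.snd_mul, hτ, hτ]
    simp [mul_comm]
  · show (τ (AdjoinRoot.of q x)).snd = _
    rw [hτof]

theorem exists_separable {k : Type u} [Field k] (D : Dat) (p : ℕ) [CharP k p] (hp : D.Small p)
    (P₀ : Fin 4 → k) (h00 : (Gpol D P₀).eval 0 ≠ 0) (hN : (Gpol D (MvPolynomial.X : Fin 4 → MvPolynomial (Fin 4) k)).natDegree ≤ D.d) :
    ∃ g : MvPolynomial (Fin 4) k, g ≠ 0 ∧ ∀ P : Fin 4 → k, MvPolynomial.eval P g ≠ 0 →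
      (Gpol D P).Separable := by
  classical
  let R := MvPolynomial (Fin 4) k
  let F := FractionRing R
  let G : R[X] := Gpol D MvPolynomial.X
  let GF : F[X] := G.map (algebraMap R F)
  have hspec : ∀ P : Fin 4 → k, G.map (MvPolynomial.eval P) = Gpol D P := fun P => by
    rw [map_Gpol]
    congr 1
    funext i
    exact MvPolynomial.eval_X i
  have hc0 : GF.coeff 0 ≠ 0 := by
    rw [coeff_map]
    refine (map_ne_zero_iff _ (IsFractionRing.injective R F)).2 fun h => h00 ?_
    rw [← coeff_zero_eq_eval_zero, ← hspec, coeff_map, h, map_zero]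
  haveI : CharP F p := charP_of_injective_algebraMap (algebraMap k F).injective p
  have hcop : IsCoprime GF GF.derivative := by
    refine isCoprime_of_prime_dvd (fun h => hc0 (by simp [h.1])) fun q hq h1 h2 => ?_
    haveI : Fact (Irreducible q) := ⟨hq.irreducible⟩
    have hGF0 : GF ≠ 0 := fun h => hc0 (by simp [h])
    have hqd : q.natDegree ≤ D.d := (natDegree_le_of_dvd h1 hGF0).trans (natDegree_map_le.trans hN)
    have hq' : q.derivative ≠ 0 := by
      intro h
      have hpos := hq.irreducible.natDegree_pos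
      have := congrArg (fun r : F[X] => r.coeff (q.natDegree - 1)) h
      rw [coeff_derivative, Nat.sub_add_cancel hpos, coeff_zero, mul_eq_zero] at this
      rcases this with h' | h'
      · exact leadingCoeff_ne_zero.2 hq.ne_zero h'
      · have h'' : ((q.natDegree : ℕ) : F) = 0 := by
          have e := congrArg (Nat.cast : ℕ → F) (Nat.sub_add_cancel hpos)
          rw [Nat.cast_add, Nat.cast_one] at e
          exact e.symm.trans h'
        rw [CharP.cast_eq_zero_iff F p] at h''
        rcases hp with rfl | hp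
        · simp at h''; omega
        · have := Nat.le_of_dvd hpos h''; omega
    let E := AdjoinRoot q
    have hqb : q.derivative.eval₂ (AdjoinRoot.of q) (AdjoinRoot.root q) ≠ 0 := by
      intro h
      have hdvd : q ∣ q.derivative := AdjoinRoot.mk_eq_zero.1 (by rw [← AdjoinRoot.aeval_eq]; exact h)
      have h1 := natDegree_le_of_dvd hdvd hq'
      have h2 := natDegree_derivative_lt hq.irreducible.natDegree_pos.ne'
      omega
    haveI : CharP E p := charP_of_injective_algebraMap (algebraMap k E).injective p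
    let φ : R →ₐ[k] E := (IsScalarTower.toAlgHom k F E).comp (IsScalarTower.toAlgHom k R F)
    let PE : Fin 4 → E := fun i => φ (MvPolynomial.X i)
    have hφinj : Function.Injective φ := (algebraMap F E).injective.comp (IsFractionRing.injective R F)
    have hP : Function.Injective PE := fun i j h => MvPolynomial.X_injective (hφinj h)
    let g₀ : R →ₐ[k] TrivSqZeroExt E E := MvPolynomial.aeval fun i =>
      TrivSqZeroExt.inl (PE i) + TrivSqZeroExt.inr (if i = 3 then 1 else 0)
    have hg₀ : (TrivSqZeroExt.fstHom k E E).comp g₀ = φ :=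
      MvPolynomial.algHom_ext fun i => by simp [g₀, PE]
    have hunit : ∀ y : nonZeroDivisors R, IsUnit (g₀ y) := fun y => by
      rw [TrivSqZeroExt.isUnit_iff_isUnit_fst]
      refine Ne.isUnit fun h0 => nonZeroDivisors.ne_zero y.2 (hφinj ?_)
      rw [map_zero, ← hg₀]
      exact h0
    let ψ : F →ₐ[k] TrivSqZeroExt E E := IsLocalization.liftAlgHom (M := nonZeroDivisors R) (f := g₀) hunit
    have hψR : ∀ x : R, ψ (algebraMap R F x) = g₀ x := fun x => IsLocalization.lift_eq _ _
    have hψ : ∀ x, (ψ x).fst = AdjoinRoot.of q x := fun x => by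
      have : (TrivSqZeroExt.fstHom k E E).comp ψ = IsScalarTower.toAlgHom k F E := by
        apply IsLocalization.algHom_ext (nonZeroDivisors R)
        refine MvPolynomial.algHom_ext fun i => ?_
        show (ψ (algebraMap R F (MvPolynomial.X i))).fst = φ (MvPolynomial.X i)
        rw [hψR, ← hg₀]
        rfl
      exact AlgHom.congr_fun this x
    obtain ⟨Dv, hDv⟩ := exists_derivation q hqb ψ hψ
    have hDvP : ∀ i, Dv (PE i) = if i = 3 then 1 else 0 := fun i => by
      show Dv (AdjoinRoot.of q (algebraMap R F (MvPolynomial.X i))) = _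
      rw [hDv, hψR]
      refine (congrArg TrivSqZeroExt.snd (MvPolynomial.aeval_X _ i)).trans ?_
      rw [TrivSqZeroExt.snd_add, TrivSqZeroExt.snd_inl, TrivSqZeroExt.snd_inr, zero_add]
    have hmap : GF.map (algebraMap F E) = Gpol D PE := by
      rw [Polynomial.map_map, map_Gpol]
      rfl
    have hdvdroot : ∀ r : F[X], q ∣ r → (r.map (algebraMap F E)).eval (AdjoinRoot.root q) = 0 := fun r hr => by
      rw [eval_map, ← aeval_def, AdjoinRoot.aeval_eq]
      exact AdjoinRoot.mk_eq_zero.2 hr
    have hr1 := hdvdroot _ h1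
    have hr2 := hdvdroot _ h2
    rw [← derivative_map, hmap] at hr2
    rw [hmap] at hr1
    have ht : AdjoinRoot.root q ≠ 0 := by
      intro h0
      rw [h0, ← hmap, ← coeff_zero_eq_eval_zero, coeff_map] at hr1
      exact hc0 ((map_eq_zero_iff _ (algebraMap F E).injective).1 hr1)
    refine not_double (D := D) (E := E) hP hp Dv (by simp [hDvP]) (by simp [hDvP]) (by simp [hDvP]) (by simp [hDvP])
      ht ?_ ?_
    · rw [Dpol_eq, eval_mul, hr1, mul_zero]
    · rw [Dpol_eq, derivative_mul, eval_add, eval_mul, eval_mul, hr1, hr2, mul_zero, mul_zero, add_zero]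
  obtain ⟨u, v, huv⟩ := hcop
  -- clear denominators
  letI := (Polynomial.mapRingHom (algebraMap R F)).toAlgebra
  haveI : IsLocalization ((nonZeroDivisors R).map (C : R →+* R[X])) F[X] := Polynomial.isLocalization _ _
  have h1 : algebraMap R[X] F[X] 1 ∈ (Ideal.span {G, G.derivative}).map (algebraMap R[X] F[X]) := by
    rw [map_one, ← huv, Ideal.map_span, Set.image_pair]
    refine add_mem (Ideal.mul_mem_left _ _ (Ideal.subset_span (.inl ?_))) (Ideal.mul_mem_left _ _ (Ideal.subset_span (.inr ?_)))
    · rfl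
    · exact derivative_map G (algebraMap R F)
  obtain ⟨_, ⟨g, hg, rfl⟩, hgI⟩ := (IsLocalization.algebraMap_mem_map_algebraMap_iff
    ((nonZeroDivisors R).map (C : R →+* R[X])) F[X] _ _).1 h1
  refine ⟨g, nonZeroDivisors.ne_zero hg, fun P hP => ?_⟩
  obtain ⟨a, b, hab⟩ := Ideal.mem_span_pair.1 hgI
  have h2 := congrArg (Polynomial.map (MvPolynomial.eval P)) hab
  simp only [Polynomial.map_add, Polynomial.map_mul, ← derivative_map, hspec, Polynomial.map_C, mul_one] at h2
  rw [separable_def]
  refine ⟨C (MvPolynomial.eval P g)⁻¹ * a.map (MvPolynomial.eval P),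
    C (MvPolynomial.eval P g)⁻¹ * b.map (MvPolynomial.eval P), ?_⟩
  rw [mul_assoc, mul_assoc, ← mul_add, h2, ← map_mul, inv_mul_cancel₀ hP, map_one]

end Groth.FourPt
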