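import Mathlib
import Groth.Agent.FourPt.Separable
import Groth.Agent.RamGeneric.Flip

/-! The number of pencils with four general ramification points, below the characteristic. -/

set_option autoImplicit false
universe u

namespace Groth.FourPt

open Polynomial W4c1limliniiii

variable {D : Dat} {k : Type u} [Field k] [IsAlgClosed k] {p : ℕ} [CharP k p] {P : Fin 4 → k}

theorem Sch.mem_ramMaps (hP : Function.Injective P) (hp : D.Small p) {s₁ s₂ : k[X]} (h : Sch D P s₁ s₂) :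
    Submodule.span k {s₁, s₂} ∈ ramMaps D.d P D.e := by
  obtain ⟨hW, -⟩ := h.wronskian_spec hP hp
  have hpen : IsPencil D.d (Submodule.span k {s₁, s₂}) := by
    refine ⟨Submodule.span_le.2 ?_, ?_, ?_, fun a => ?_⟩
    · rintro _ (rfl | rfl)
      · exact Groth.Misc6.Pencil.mem_of_natDegree_le h.deg₁
      · exact Groth.Misc6.Pencil.mem_of_natDegree_le h.deg₂
    · rw [show ({s₁, s₂} : Set k[X]) = Set.range ![s₁, s₂] by simp [Set.pair_comm], finrank_span_eq_card h.indep]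
      rfl
    · rcases h.exists_natDegree_eq hP hp with h' | h'
      · exact ⟨s₁, Submodule.subset_span (by simp), h'⟩
      · exact ⟨s₂, Submodule.subset_span (by simp), h'⟩
    · by_contra! hall
      obtain ⟨u, v, huv⟩ := h.isCoprime hP hp
      have := congrArg (eval a) huv
      simp [hall s₁ (Submodule.subset_span (by simp)), hall s₂ (Submodule.subset_span (by simp))] at this
  refine ⟨hpen, ⟨s₁, Submodule.subset_span (by simp), s₂, Submodule.subset_span (by simp), hW⟩, fun i => ?_⟩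
  refine (Groth.Agent.S19560.result k p D.d s₁ s₂ hpen hW (P i) (D.e i) ?_ ?_).1
  · rw [h.rootMultiplicity hP hp i]
    have := D.one_le i
    omega
  · exact hp.imp id fun h' => by have := D.le_d i; omega

/-- No member of a pencil of the set vanishes at two of the points. -/
def NoTwo (D : Dat) (P : Fin 4 → k) : Prop :=
  ∀ V ∈ ramMaps D.d P D.e, ∀ i j : Fin 4, i ≠ j → ∀ s ∈ V, (s.IsRoot (P i) ∧ s.IsRoot (P j)) → s = 0

theorem false_of_two (hP : Function.Injective P) (hp : D.Small p) (hS : NoTwo D P) {s₁ s₂ : k[X]}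
    (h : Sch D P s₁ s₂) {i j : Fin 4} (hij : i ≠ j) {x y : k} (hxy : x ≠ 0 ∨ y ≠ 0)
    (hi : (X - C (P i)) ^ D.e i ∣ x • s₁ + y • s₂) (hj : (X - C (P j)) ^ D.e j ∣ x • s₁ + y • s₂) : False := by
  have hroot : ∀ l, (X - C (P l)) ^ D.e l ∣ x • s₁ + y • s₂ → (x • s₁ + y • s₂).IsRoot (P l) := fun l hl =>
    dvd_iff_isRoot.1 ((dvd_pow_self _ (Nat.one_le_iff_ne_zero.1 (D.one_le l))).trans hl)
  have h0 := hS _ (h.mem_ramMaps hP hp) i j hij _ (Submodule.mem_span_pair.2 ⟨x, y, rfl⟩) ⟨hroot i hi, hroot j hj⟩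
  obtain ⟨rfl, rfl⟩ := LinearIndependent.pair_iff.1 h.indep x y h0
  simp at hxy

theorem sum_two (D : Dat) : D.d < D.e 0 + D.e 1 ∧ D.d < D.e 0 + D.e 2 ∧ D.d < D.e 0 + D.e 2 + D.e 3 ∧
    D.d < D.e 1 + D.e 2 + D.e 3 := by
  have := D.h01; have := D.h12; have := D.h23; have := D.sum_e; have := D.le_d 0; have := D.one_le 3
  omega

theorem det_zero_ne (hP : Function.Injective P) (hp : D.Small p) (hS : NoTwo D P) : (sq D P 1 0 1).det ≠ 0 := by
  intro h
  obtain ⟨v, hv, hvn⟩ := Matrix.exists_mulVec_eq_zero_iff.2 h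
  obtain ⟨h3, h4⟩ := (sq_mulVec D P 1 0 1 v).1 hvn
  rw [map_one, map_zero, one_mul, zero_mul, sub_zero, one_mul] at h4
  obtain ⟨b01, b02, b023, b123⟩ := sum_two D
  have c : (X - C (P 2)) ^ D.e 2 ∣ S₁ D P v - SL D P v := by
    have := dvd_add h3 (dvd_SH (D := D) (P := P) v).2
    rwa [sub_add_cancel] at this
  obtain ⟨hH1, hH2⟩ := dvd_SH (D := D) (P := P) v
  have hne : ¬ (S₁ D P v = 0 ∧ SH D P v = 0 ∧ SL D P v = 0) := fun ⟨a, b, c⟩ => hv (eq_zero_of_S v a c b)
  by_cases hs1 : S₁ D P v = 0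
  · have hH : SH D P v = 0 := eq_zero_of_dvd hP {1, 2, 3} (natDegree_SH v) D.e (fun i hi => by
      simp only [Finset.mem_insert, Finset.mem_singleton] at hi
      rcases hi with rfl | rfl | rfl
      · exact hH1
      · exact hH2
      · rw [hs1, zero_sub, dvd_neg] at h4; exact h4)
      (by rw [Finset.sum_insert (by decide), Finset.sum_pair (by decide)]; omega)
    refine hne ⟨hs1, hH, ?_⟩
    rw [hs1, zero_sub, dvd_neg, SL_eq] at c
    have hcop : IsCoprime ((X - C (P 2)) ^ D.e 2) ((X - C (P 1)) ^ D.e 1) :=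
      (pairwise_coprime_X_sub_C hP (show (2 : Fin 4) ≠ 1 by decide)).pow
    rw [SL_eq, low_eq_zero (hcop.dvd_of_dvd_mul_left c), mul_zero]
  by_cases hH : SH D P v = 0
  · rw [hH, sub_zero] at h4
    by_cases hL : SL D P v = 0
    · refine hs1 (eq_zero_of_dvd hP {0, 2, 3} (natDegree_S₁ v) D.e (fun i hi => ?_)
        (by rw [Finset.sum_insert (by decide), Finset.sum_pair (by decide)]; omega))
      simp only [Finset.mem_insert, Finset.mem_singleton] at hi
      rcases hi with rfl | rfl | rfl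
      · exact dvd_S₁ v
      · rw [hL, sub_zero] at c; exact c
      · exact h4
    · have hsch : Sch D P (S₁ D P v) (SL D P v) :=
        ⟨natDegree_S₁ v, natDegree_SL v, indep_of_dvd hP (natDegree_S₁ v) hs1 hL (dvd_S₁ v) (dvd_SL v), fun i => by
          fin_cases i
          · exact ⟨1, 0, .inl one_ne_zero, by simpa using dvd_S₁ v⟩
          · exact ⟨0, 1, .inr one_ne_zero, by simpa using dvd_SL v⟩
          · exact ⟨1, -1, .inl one_ne_zero, by simpa [sub_eq_add_neg] using c⟩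
          · exact ⟨1, 0, .inl one_ne_zero, by simpa using h4⟩⟩
      exact false_of_two hP hp hS hsch (show (0 : Fin 4) ≠ 3 by decide) (x := 1) (y := 0) (.inl one_ne_zero)
        (by simpa using dvd_S₁ v) (by simpa using h4)
  · have hsch : Sch D P (S₁ D P v) (SH D P v) :=
      ⟨natDegree_S₁ v, natDegree_SH v, indep_of_dvd hP (natDegree_S₁ v) hs1 hH (dvd_S₁ v) hH1, fun i => by
        fin_cases i
        · exact ⟨1, 0, .inl one_ne_zero, by simpa using dvd_S₁ v⟩
        · exact ⟨0, 1, .inr one_ne_zero, by simpa using hH1⟩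
        · exact ⟨0, 1, .inr one_ne_zero, by simpa using hH2⟩
        · exact ⟨1, -1, .inl one_ne_zero, by simpa [sub_eq_add_neg] using h4⟩⟩
    exact false_of_two hP hp hS hsch (show (1 : Fin 4) ≠ 2 by decide) (x := 0) (y := 1) (.inr one_ne_zero)
      (by simpa using hH1) (by simpa using hH2)

theorem det_top_ne (hP : Function.Injective P) (hp : D.Small p) (hS : NoTwo D P) : (sq D P 0 1 1).det ≠ 0 := by
  intro h
  obtain ⟨v, hv, hvn⟩ := Matrix.exists_mulVec_eq_zero_iff.2 h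
  obtain ⟨h3, h4⟩ := (sq_mulVec D P 0 1 1 v).1 hvn
  rw [map_one, map_zero, zero_mul, one_mul, one_mul, zero_sub, ← neg_add', dvd_neg] at h4
  rw [sub_sub] at h3
  obtain ⟨b01, b02, b023, b123⟩ := sum_two D
  have b := dvd_add (dvd_SL (D := D) (P := P) v) (dvd_SH (D := D) (P := P) v).1
  have hd2 : (SL D P v + SH D P v).natDegree ≤ D.d :=
    natDegree_add_le_of_degree_le (natDegree_SL v) (natDegree_SH v)
  by_cases hs1 : S₁ D P v = 0
  · have h2 : SL D P v + SH D P v = 0 := eq_zero_of_dvd hP {1, 2, 3} hd2 D.e (fun i hi => by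
      simp only [Finset.mem_insert, Finset.mem_singleton] at hi
      rcases hi with rfl | rfl | rfl
      · exact b
      · rw [hs1, zero_sub, dvd_neg] at h3; exact h3
      · exact h4)
      (by rw [Finset.sum_insert (by decide), Finset.sum_pair (by decide)]; omega)
    exact hv (eq_zero_of_S v hs1 (SL_add_SH_eq_zero h2).1 (SL_add_SH_eq_zero h2).2)
  by_cases hs2 : SL D P v + SH D P v = 0
  · refine hs1 (eq_zero_of_dvd hP {0, 2} (natDegree_S₁ v) D.e (fun i hi => ?_)
      (by rw [Finset.sum_pair (by decide)]; omega))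
    simp only [Finset.mem_insert, Finset.mem_singleton] at hi
    rcases hi with rfl | rfl
    · exact dvd_S₁ v
    · rw [hs2, sub_zero] at h3; exact h3
  have hsch : Sch D P (S₁ D P v) (SL D P v + SH D P v) :=
    ⟨natDegree_S₁ v, hd2, indep_of_dvd hP (natDegree_S₁ v) hs1 hs2 (dvd_S₁ v) b, fun i => by
      fin_cases i
      · exact ⟨1, 0, .inl one_ne_zero, by simpa using dvd_S₁ v⟩
      · exact ⟨0, 1, .inr one_ne_zero, by simpa using b⟩
      · exact ⟨1, -1, .inl one_ne_zero, by rw [one_smul, neg_smul, one_smul, ← sub_eq_add_neg]; exact h3⟩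
      · exact ⟨0, 1, .inr one_ne_zero, by simpa using h4⟩⟩
  exact false_of_two hP hp hS hsch (show (1 : Fin 4) ≠ 3 by decide) (x := 0) (y := 1) (.inr one_ne_zero)
    (by simpa using b) (by simpa using h4)

/-- The degree and the value at zero of the determinant. -/
theorem Gpol_facts (hP : Function.Injective P) (hp : D.Small p) (hS : NoTwo D P) :
    (Gpol D P).natDegree = D.e 3 - D.hi ∧ (Gpol D P).eval 0 ≠ 0 := by
  obtain ⟨h1, h2⟩ := natDegree_Dpol_le_and D P
  have hne := det_top_ne hP hp hS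
  have hD : (Dpol D P).natDegree = D.e 3 := le_antisymm h1 (le_natDegree_of_ne_zero (h2 ▸ hne))
  have h0 : (Gpol D P).eval 0 ≠ 0 := by rw [eval_Gpol]; exact det_zero_ne hP hp hS
  refine ⟨?_, h0⟩
  have hG : Gpol D P ≠ 0 := fun h => h0 (by rw [h, eval_zero])
  rw [Dpol_eq, natDegree_mul (pow_ne_zero _ X_ne_zero) hG, natDegree_X_pow] at hD
  omega

theorem cross_unique (hP : Function.Injective P) (hp : D.Small p) {s₁ s₂ r₁ r₂ : k[X]} {t t' : k}
    (h : Sch D P s₁ s₂) (a : (X - C (P 0)) ^ D.e 0 ∣ s₁) (b : (X - C (P 1)) ^ D.e 1 ∣ s₂)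
    (c : (X - C (P 2)) ^ D.e 2 ∣ s₁ - s₂) (e : (X - C (P 3)) ^ D.e 3 ∣ s₁ - C t * s₂) (h' : Sch D P r₁ r₂)
    (a' : (X - C (P 0)) ^ D.e 0 ∣ r₁) (b' : (X - C (P 1)) ^ D.e 1 ∣ r₂)
    (c' : (X - C (P 2)) ^ D.e 2 ∣ r₁ - r₂) (e' : (X - C (P 3)) ^ D.e 3 ∣ r₁ - C t' * r₂)
    (hspan : Submodule.span k {r₁, r₂} = Submodule.span k {s₁, s₂}) : t' = t := by
  have hev : ∀ {i : Fin 4} {q : k[X]}, (X - C (P i)) ^ D.e i ∣ q → q.eval (P i) = 0 := fun {i q} hq =>
    dvd_iff_isRoot.1 ((dvd_pow_self _ (Nat.one_le_iff_ne_zero.1 (D.one_le i))).trans hq)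
  have hno : ∀ z : k, s₁.eval z = 0 → s₂.eval z ≠ 0 := fun z h1 h2 => by
    obtain ⟨u, v, huv⟩ := h.isCoprime hP hp
    simpa [h1, h2] using congrArg (eval z) huv
  obtain ⟨x, y, hxy⟩ := Submodule.mem_span_pair.1 (hspan ▸ Submodule.subset_span (by simp) :
    r₁ ∈ Submodule.span k {s₁, s₂})
  obtain ⟨x', y', hxy'⟩ := Submodule.mem_span_pair.1 (hspan ▸ Submodule.subset_span (by simp) :
    r₂ ∈ Submodule.span k {s₁, s₂})
  have hy : y = 0 := by
    have h1 := congrArg (eval (P 0)) hxy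
    rw [eval_add, eval_smul, eval_smul, hev a, hev a', smul_zero, zero_add, smul_eq_mul, mul_eq_zero] at h1
    exact h1.resolve_right (hno _ (hev a))
  have hx' : x' = 0 := by
    have h1 := congrArg (eval (P 1)) hxy'
    rw [eval_add, eval_smul, eval_smul, hev b, hev b', smul_zero, add_zero, smul_eq_mul, mul_eq_zero] at h1
    exact h1.resolve_right fun h2 => hno _ h2 (hev b)
  have hx0 : x ≠ 0 := fun h0 => by
    simp [hy, h0] at hxy
    exact h'.indep.ne_zero 0 hxy.symm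
  subst hy hx'
  simp only [zero_smul, add_zero, zero_add] at hxy hxy'
  have hxy2 : x = y' := by
    have h1 := hev c
    have h2 := hev c'
    simp only [← hxy, ← hxy', eval_sub, eval_smul, smul_eq_mul] at h1 h2
    have h3 : (x - y') * s₂.eval (P 2) = 0 := by linear_combination h2 - x * h1
    refine sub_eq_zero.1 ((mul_eq_zero.1 h3).resolve_right fun h4 => hno _ ?_ h4)
    simpa [h4] using h1
  have h1 := hev e
  have h2 := hev e'
  simp only [← hxy, ← hxy', eval_sub, eval_mul, eval_C, eval_smul, smul_eq_mul, ← hxy2] at h1 h2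
  have h3 : x * ((t - t') * s₂.eval (P 3)) = 0 := by linear_combination h2 - x * h1
  refine (sub_eq_zero.1 ((mul_eq_zero.1 ((mul_eq_zero.1 h3).resolve_left hx0)).resolve_right fun h4 => hno _ ?_ h4)).symm
  simpa [h4] using h1

theorem exists_null (hP : Function.Injective P) (hp : D.Small p) (hS : NoTwo D P) {V : Submodule k k[X]}
    (hV : V ∈ ramMaps D.d P D.e) :
    ∃ (t : k) (v : D.Col → k), t ≠ 0 ∧ v ≠ 0 ∧ Matrix.mulVec (sq D P 1 t t) v = 0 ∧
      V = Submodule.span k {S₁ D P v, SL D P v + SH D P v} := by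
  obtain ⟨A, hAV, hA, hA0⟩ := Groth.RamGeneric.exists_of_mem hV 0
  obtain ⟨B, hBV, hB, hB0⟩ := Groth.RamGeneric.exists_of_mem hV 1
  have hne : ∀ (c : k) (m : ℕ), (X - C c) ^ m ≠ 0 := fun c m => pow_ne_zero _ (X_sub_C_ne_zero _)
  set a := (X - C (P 0)) ^ D.e 0 * A with ha
  set b := (X - C (P 1)) ^ D.e 1 * B with hb
  have ha0 : a ≠ 0 := mul_ne_zero (hne _ _) hA0
  have hb0 : b ≠ 0 := mul_ne_zero (hne _ _) hB0
  have hadeg : a.natDegree ≤ D.d := Groth.Misc6.Pencil.natDegree_le_of_mem (hV.1.1 hAV)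
  have hbdeg : b.natDegree ≤ D.d := Groth.Misc6.Pencil.natDegree_le_of_mem (hV.1.1 hBV)
  have hspan := Groth.RamGeneric.span_eq_of_mem hV hAV hBV
    (indep_of_dvd hP hadeg ha0 hb0 (dvd_mul_right _ _) (dvd_mul_right _ _))
  have hroot : ∀ (l : Fin 4) (q : k[X]), (X - C (P l)) ^ D.e l ∣ q → q.IsRoot (P l) := fun l q hl =>
    dvd_iff_isRoot.1 ((dvd_pow_self _ (Nat.one_le_iff_ne_zero.1 (D.one_le l))).trans hl)
  have hmem : ∀ l : Fin 4, l ≠ 0 → l ≠ 1 → ∃ x y : k, x ≠ 0 ∧ y ≠ 0 ∧ (X - C (P l)) ^ D.e l ∣ x • a + y • b := by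
    intro l hl0 hl1
    obtain ⟨Q, hQV, -, hQ0⟩ := Groth.RamGeneric.exists_of_mem hV l
    obtain ⟨x, y, hxy⟩ := Submodule.mem_span_pair.1
      (hspan.symm ▸ hQV : (X - C (P l)) ^ D.e l * Q ∈ Submodule.span k {a, b})
    have hz : (X - C (P l)) ^ D.e l * Q ≠ 0 := mul_ne_zero (hne _ _) hQ0
    refine ⟨x, y, fun h => ?_, fun h => ?_, ⟨Q, hxy⟩⟩
    · subst h
      refine hz (hS V hV l 1 hl1 _ hQV ⟨hroot _ _ (dvd_mul_right _ _), ?_⟩)
      rw [← hxy, zero_smul, zero_add, IsRoot, eval_smul]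
      rw [(hroot 1 b (dvd_mul_right _ _)).eq_zero, smul_zero]
    · subst h
      refine hz (hS V hV l 0 hl0 _ hQV ⟨hroot _ _ (dvd_mul_right _ _), ?_⟩)
      rw [← hxy, zero_smul, add_zero, IsRoot, eval_smul]
      rw [(hroot 0 a (dvd_mul_right _ _)).eq_zero, smul_zero]
  obtain ⟨x, y, hx, hy, hxy⟩ := hmem 2 (by decide) (by decide)
  obtain ⟨x', y', hx', hy', hxy'⟩ := hmem 3 (by decide) (by decide)
  set t := y' * x / (x' * y) with ht
  -- the blocks
  have hAd : (C x * A).degree < D.al := by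
    rw [degree_eq_natDegree (mul_ne_zero (by simpa using hx) hA0), natDegree_C_mul hx]
    rw [ha, natDegree_pow_X_sub_C_mul _ _ hA0] at hadeg
    have h2 : D.al = D.d + 1 - D.e 0 := rfl
    exact_mod_cast (show A.natDegree < D.al by omega)
  set B' := C (-y) * B with hB'
  have hB'0 : B' ≠ 0 := mul_ne_zero (by simpa using hy) hB0
  have hB'd : D.e 1 + B'.natDegree ≤ D.d := by
    rw [hB', natDegree_C_mul (neg_ne_zero.2 hy)]
    rwa [hb, natDegree_pow_X_sub_C_mul _ _ hB0] at hbdeg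
  set u := (X - C (P 2)) ^ D.e 2 with hu
  have hum : u.Monic := (monic_X_sub_C _).pow _
  have hud : u.natDegree = D.e 2 := by rw [hu, natDegree_pow, natDegree_X_sub_C, mul_one]
  have hlo : D.lo = min (D.d + 1 - D.e 1) (D.e 2) := rfl
  have hhi : D.hi = D.d + 1 - D.e 1 - D.lo := rfl
  have hLd : (B' %ₘ u).degree < D.lo := by
    rcases le_or_gt (D.e 2) (D.d + 1 - D.e 1) with h | h
    · rw [hlo, min_eq_right h, ← hud, ← degree_eq_natDegree hum.ne_zero]
      exact degree_modByMonic_lt _ hum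
    · rw [(modByMonic_eq_self_iff hum).2 ?_, hlo, min_eq_left h.le, degree_eq_natDegree hB'0]
      · exact_mod_cast (show B'.natDegree < D.d + 1 - D.e 1 by omega)
      · rw [degree_eq_natDegree hum.ne_zero, degree_eq_natDegree hB'0, hud]
        exact_mod_cast (show B'.natDegree < D.e 2 by omega)
  have hHd : (B' /ₘ u).degree < D.hi := by
    by_cases h0 : B' /ₘ u = 0
    · rw [h0, degree_zero]; exact WithBot.bot_lt_coe _
    · rw [degree_eq_natDegree h0, natDegree_divByMonic _ hum, hud]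
      have hge : D.e 2 ≤ B'.natDegree := by
        by_contra hlt
        exact h0 ((divByMonic_eq_zero_iff hum).2 (by
          rw [degree_eq_natDegree hum.ne_zero, degree_eq_natDegree hB'0, hud]
          exact_mod_cast not_le.1 hlt))
      exact_mod_cast (show B'.natDegree - D.e 2 < D.hi by omega)
  obtain ⟨va, hva⟩ := exists_blk _ hAd
  obtain ⟨vl, hvl⟩ := exists_blk _ hLd
  obtain ⟨vh, hvh⟩ := exists_blk _ hHd
  set v : D.Col → k := Sum.elim va (Sum.elim vl vh) with hv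
  have e1 : S₁ D P v = x • a := by
    rw [S₁_eq, show (fun l => v (.inl l)) = va from rfl, hva, smul_eq_C_mul, ha]; ring
  have e2 : SL D P v + SH D P v = -(y • b) := by
    rw [SL_eq, SH_eq, show (fun l => v (.inr (.inl l))) = vl from rfl, hvl,
      show (fun l => v (.inr (.inr l))) = vh from rfl, hvh, smul_eq_C_mul, hb, ← mul_add, modByMonic_add_div, hB',
      map_neg]
    ring
  refine ⟨t, v, div_ne_zero (mul_ne_zero hy' hx) (mul_ne_zero hx' hy), ?_, ?_, ?_⟩
  · intro h0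
    have h1 : S₁ D P v = 0 := by simp [S₁, h0]
    exact ha0 ((smul_eq_zero.1 (e1.symm.trans h1)).resolve_left hx)
  · rw [sq_mulVec, map_one, one_mul, sub_sub, sub_sub, ← mul_add, e1, e2, sub_neg_eq_add]
    refine ⟨hxy, ?_⟩
    have h1 : x • a - C t * -(y • b) = C (x / x') * (x' • a + y' • b) := by
      simp only [smul_eq_C_mul]
      have s1 : C (x / x') * C x' = C x := by rw [← map_mul, div_mul_cancel₀ _ hx']
      have s2 : C (x / x') * C y' = C t * C y := by
        rw [← map_mul, ← map_mul]; congr 1; rw [ht]; field_simp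
      linear_combination (-a) * s1 - b * s2
    rw [h1]
    exact Dvd.dvd.mul_left hxy' _
  · rw [e1, e2, ← hspan, Submodule.span_insert, Submodule.span_insert, ← neg_smul,
      Submodule.span_singleton_smul_eq hx.isUnit, Submodule.span_singleton_smul_eq (neg_ne_zero.2 hy).isUnit]

/-- The count below the characteristic. -/
theorem count (hp : D.Small p) :
    ∃ Φ : MvPolynomial (Fin 4) k, Φ ≠ 0 ∧ ∀ P : Fin 4 → k, MvPolynomial.eval P Φ ≠ 0 →
      (ramMaps D.d P D.e).Finite ∧ Nat.card (ramMaps D.d P D.e) = min (D.d + 1 - D.e 0) (D.e 3) := by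
  classical
  obtain ⟨Φ₁, hΦ₁, h₁⟩ := Groth.RamGeneric.main' (k := k) (d := D.d) p D.e D.one_le (fun i h => by
      have h2 := D.one_le i
      have h3 := D.le_d i
      rcases hp with rfl | hp
      · simp at h; omega
      · have := Nat.le_of_dvd h2 h; omega)
    (by rw [Fin.sum_univ_four]; have := D.sum_e; omega) (by have := D.le_d 0; have := D.one_le 0; omega)
  let Φ₂ : MvPolynomial (Fin 4) k := ∏ q ∈ (Finset.univ : Finset (Fin 4 × Fin 4)).filter (fun q => q.1 ≠ q.2),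
    (MvPolynomial.X q.1 - MvPolynomial.X q.2)
  have hΦ₂ : Φ₂ ≠ 0 := Finset.prod_ne_zero_iff.2
    fun q hq => sub_ne_zero.2 fun h => (Finset.mem_filter.1 hq).2 (MvPolynomial.X_injective h)
  have hinj : ∀ P : Fin 4 → k, MvPolynomial.eval P Φ₂ ≠ 0 → Function.Injective P := fun P hP a b h => by
    simp only [Φ₂, map_prod, map_sub, MvPolynomial.eval_X, Finset.prod_ne_zero_iff] at hP
    by_contra hne
    exact hP (a, b) (Finset.mem_filter.2 ⟨Finset.mem_univ _, hne⟩) (sub_eq_zero.2 h)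
  obtain ⟨P₀, hP₀⟩ : ∃ P₀, MvPolynomial.eval P₀ (Φ₁ * Φ₂) ≠ 0 := by
    by_contra! h
    exact mul_ne_zero hΦ₁ hΦ₂ (MvPolynomial.funext fun c => by rw [h c, map_zero])
  rw [map_mul, mul_ne_zero_iff] at hP₀
  have hf₀ := Gpol_facts (hinj P₀ hP₀.2) hp (h₁ P₀ hP₀.1).2
  have hXdeg : (Gpol D (MvPolynomial.X : Fin 4 → MvPolynomial (Fin 4) k)).natDegree ≤ D.d := by
    have h2 := (natDegree_Dpol_le_and D (MvPolynomial.X : Fin 4 → MvPolynomial (Fin 4) k)).1
    have h3 : Gpol D (MvPolynomial.X : Fin 4 → MvPolynomial (Fin 4) k) ≠ 0 := fun h => hf₀.2 (by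
      have h4 := congrArg (Polynomial.map (MvPolynomial.eval P₀)) h
      rw [map_Gpol, Polynomial.map_zero, show MvPolynomial.eval P₀ ∘ (MvPolynomial.X : Fin 4 → MvPolynomial (Fin 4) k) = P₀
        from funext fun i => MvPolynomial.eval_X i] at h4
      rw [h4, eval_zero])
    rw [Dpol_eq, natDegree_mul (pow_ne_zero _ X_ne_zero) h3, natDegree_X_pow] at h2
    have := D.le_d 3
    omega
  obtain ⟨g, hg, hsep⟩ := exists_separable D p hp P₀ hf₀.2 hXdeg
  refine ⟨Φ₁ * Φ₂ * g, mul_ne_zero (mul_ne_zero hΦ₁ hΦ₂) hg, fun P hP => ?_⟩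
  rw [map_mul, map_mul, mul_ne_zero_iff, mul_ne_zero_iff] at hP
  obtain ⟨hfin, hS⟩ := h₁ P hP.1.1
  have hPinj := hinj P hP.1.2
  obtain ⟨hdeg, h00⟩ := Gpol_facts hPinj hp hS
  refine ⟨hfin, ?_⟩
  have hnull : ∀ t : {t // t ∈ (Gpol D P).roots.toFinset}, ∃ v : D.Col → k,
      v ≠ 0 ∧ Matrix.mulVec (sq D P 1 t.1 t.1) v = 0 := fun t => by
    refine Matrix.exists_mulVec_eq_zero_iff.2 ?_
    rw [← eval_Dpol, Dpol_eq, eval_mul, (isRoot_of_mem_roots (Multiset.mem_toFinset.1 t.2)).eq_zero, mul_zero]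
  choose v hv0 hv using hnull
  have ht0 : ∀ t : {t // t ∈ (Gpol D P).roots.toFinset}, t.1 ≠ 0 := fun t h => by
    have h1 := (isRoot_of_mem_roots (Multiset.mem_toFinset.1 t.2)).eq_zero
    rw [h] at h1
    exact h00 h1
  have hfacts := fun t => sch_of_null hPinj (ht0 t) (hv0 t) (hv t)
  let f : {t // t ∈ (Gpol D P).roots.toFinset} → ramMaps D.d P D.e := fun t =>
    ⟨_, (hfacts t).1.mem_ramMaps hPinj hp⟩
  have hbij : Function.Bijective f := by
    constructor
    · intro t t' htt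
      obtain ⟨h, b, c, e⟩ := hfacts t
      obtain ⟨h', b', c', e'⟩ := hfacts t'
      exact Subtype.ext (cross_unique hPinj hp h (dvd_S₁ _) b c e h' (dvd_S₁ _) b' c' e'
        (congrArg Subtype.val htt).symm).symm
    · rintro ⟨V, hV⟩
      obtain ⟨t, w, ht, hw, hwn, hVeq⟩ := exists_null hPinj hp hS hV
      have htroot : t ∈ (Gpol D P).roots.toFinset := by
        rw [Multiset.mem_toFinset, mem_roots fun h => h00 (by rw [h, eval_zero])]
        have h1 := Matrix.exists_mulVec_eq_zero_iff.1 ⟨w, hw, hwn⟩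
        rw [← eval_Dpol, Dpol_eq, eval_mul, eval_pow, eval_X, mul_eq_zero] at h1
        exact h1.resolve_left (pow_ne_zero _ ht)
      refine ⟨⟨t, htroot⟩, Subtype.ext ?_⟩
      obtain ⟨h, b, c, e⟩ := hfacts ⟨t, htroot⟩
      obtain ⟨h', b', c', e'⟩ := sch_of_null hPinj ht hw hwn
      obtain ⟨μ, hμ1, hμ2⟩ := h.rigid hPinj hp (dvd_S₁ _) b c e h'.deg₁ h'.deg₂ (dvd_S₁ w) b' c'
        ((pow_dvd_pow _ (Nat.sub_le _ _)).trans e')
      have hμ : μ ≠ 0 := fun h0 => h'.indep.ne_zero 0 (by simpa [h0] using hμ1)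
      show Submodule.span k {_, _} = V
      rw [hVeq, hμ1, hμ2, ← smul_eq_C_mul, ← smul_eq_C_mul, Submodule.span_insert, Submodule.span_insert,
        Submodule.span_singleton_smul_eq hμ.isUnit, Submodule.span_singleton_smul_eq hμ.isUnit]
  rw [← Nat.card_eq_of_bijective f hbij, Nat.card_eq_fintype_card, Fintype.card_coe,
    Multiset.toFinset_card_of_nodup (nodup_roots (hsep P hP.2)),
    ← (IsAlgClosed.splits (Gpol D P)).natDegree_eq_card_roots, hdeg]
  have hlo : D.lo = min (D.d + 1 - D.e 1) (D.e 2) := rfl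
  have hhi : D.hi = D.d + 1 - D.e 1 - D.lo := rfl
  have := D.sum_e; have := D.le_d 0; have := D.le_d 1
  omega

end Groth.FourPt
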